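import Cfsg.Agent.Lib.PairPSolvable.Data
import Cfsg.Agent.Lib.Zassenhaus.AbelianChars

/-!
# One class of elements of order `p`

A simple group whose Sylow `p`-subgroups are nontrivial elementary abelian, whose elements of order
`p` are conjugate with `p`-nilpotent centralizers and generate pairwise `p`-solvable groups, has
`p = 2`.
-/

set_option autoImplicit false
set_option linter.unusedSectionVars false
set_option linter.style.haveILetI false

open Cfsg.Agent.Lib.Characters.Basic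

namespace Cfsg.Agent.Lib.PairPSolvable

universe u

variable {p : ℕ} [hp : Fact p.Prime] {G : Type u} [Group G] [Finite G]

theorem arith_one {q c s f : ℝ} {p' : ℝ} (hp3 : 3 ≤ p') (hq : 3 ≤ q)
    (hc : c = (p' - 2) / (p' - 1)) (hf : s + q ≤ f)
    (hlt : (c * q - 1) * f < (q - 1) * s) : q - 2 < s := by
  have h1 : (0 : ℝ) < p' - 1 := by linarith
  have hcm : c * (p' - 1) = p' - 2 := by rw [hc, div_mul_cancel₀ _ h1.ne']
  have hcq : 0 ≤ c * q - 1 := by
    have : p' - 1 ≤ (p' - 2) * q := by nlinarith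
    nlinarith
  have h2 : (c * q - 1) * (s + q) < (q - 1) * s :=
    lt_of_le_of_lt (mul_le_mul_of_nonneg_left hf hcq) hlt
  have h3 : ((c * q - 1) * (s + q)) * (p' - 1) < ((q - 1) * s) * (p' - 1) :=
    mul_lt_mul_of_pos_right h2 h1
  have h4 : ((p' - 2) * q - (p' - 1)) * (s + q) < (q - 1) * (p' - 1) * s := by
    rw [← hcm]; nlinarith
  have h5 : ((p' - 2) * q - (p' - 1)) * q < q * s := by nlinarith
  have h6 : (p' - 2) * q - (p' - 1) < s := by nlinarith
  nlinarith

theorem false_of_oneClass [IsSimpleGroup G] (hp2 : p ≠ 2) (P : Sylow p G)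
    (hP : ∀ a ∈ (P : Subgroup G), ∀ b ∈ (P : Subgroup G), a * b = b * a)
    (hexp : ∀ a ∈ (P : Subgroup G), a ^ p = 1) (hne : (P : Subgroup G) ≠ ⊥)
    (hcl : ∀ x y : G, orderOf x = p → orderOf y = p → IsConj x y)
    (hC : ∀ u : G, orderOf u = p →
      Cfsg.HasNormalPComplement p (Subgroup.centralizer ({u} : Set G)))
    (hpair : PairSolvable p G) : False := by
  classical
  haveI := Fintype.ofFinite G
  haveI := Fintype.ofFinite (Cfsg.IrrCharacter G)
  obtain ⟨x, hxP, hx1⟩ := ((Subgroup.bot_or_exists_ne_one (P : Subgroup G)).resolve_left hne)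
  have hx : orderOf x = p := orderOf_eq_prime (hexp x hxP) hx1
  have hS : (ordSet p G).Nonempty := ⟨x, mem_ordSet.2 hx⟩
  have hcon : ∀ u ∈ ordSet p G, ∃ (c : G) (i : ℕ), ¬ p ∣ i ∧ c * x ^ i * c⁻¹ = u := by
    intro u hu
    obtain ⟨c, hc⟩ := isConj_iff.1 (hcl x u hx (mem_ordSet.1 hu))
    exact ⟨c, 1, hp.out.not_dvd_one, by rw [pow_one, hc]⟩
  obtain ⟨D, d, hD, hd, hd0, hcC⟩ := exists_data P hP hxP hx hcon (fun u hu => hC u (mem_ordSet.1 hu))
  set n := Nat.card (P : Subgroup G) with hn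
  have hcount : (ordSet p G).card * (d * n) = Nat.card G := by
    rw [← hcC, ← Characters.Complete.card_conjugates_mul_centralizer x]
    congr 1
    rw [Nat.card_eq_fintype_card, Fintype.card_subtype]
    congr 1
    ext u
    rw [mem_ordSet, Finset.mem_filter]
    refine ⟨fun hu => ⟨Finset.mem_univ _, hcl x u hx hu⟩, fun h => ?_⟩
    obtain ⟨c, rfl⟩ := isConj_iff.1 h.2
    rw [show orderOf (c * x * c⁻¹) = orderOf x from (MulAut.conj c).orderOf_eq x, hx]
  have hp3 : 3 ≤ p := by have := hp.out.two_le; omega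
  have hn3 : 3 ≤ n := by
    refine le_trans hp3 (Nat.le_of_dvd Nat.card_pos ?_)
    rw [← hx, ← Subgroup.orderOf_mk x hxP]
    exact orderOf_dvd_natCard _
  set q : ℝ := (n : ℝ) with hq
  have hq3 : (3 : ℝ) ≤ q := by rw [hq]; exact_mod_cast hn3
  have hQ : q * ((d : ℝ) * ((ordSet p G).card : ℝ)) = (Nat.card G : ℝ) := by
    rw [← hcount, hq]; push_cast; ring
  obtain ⟨M, hM⟩ := Blocks.exists_isPModular p hp.out
  have hp' : (3 : ℝ) ≤ p := by exact_mod_cast hp3
  have hc1 : 1 ≤ ((p : ℝ) - 2) / ((p : ℝ) - 1) * q := by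
    rw [div_mul_eq_mul_div, le_div_iff₀ (by linarith)]
    nlinarith
  obtain ⟨hsq, χ, hχ1, hχB, hlt⟩ :=
    exists_large P hP hpair M hM D d hD hd hd0 hS hQ (by linarith) hc1
  obtain ⟨ι, _, z, hz, hsum⟩ := exists_roots (isCharacter_irr χ) x
  rw [hx] at hz
  have hm := mean_formula χ hcon hS z hz hsum
  have hw := card_moved_pos hχ1 hx1 z hsum
  -- the value on `x`
  set s := mean p χ with hs
  have hval : (χ : G → ℂ) x = (s : ℂ) := by
    have h := mean_eq hS χ
    rw [sigma, Finset.sum_congr rfl fun u hu => ?_, Finset.sum_const, nsmul_eq_mul] at h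
    · exact mul_left_cancel₀ (Nat.cast_ne_zero.2 hS.card_pos.ne') h
    · obtain ⟨c, hc⟩ := isConj_iff.1 (hcl x u hx (mem_ordSet.1 hu))
      rw [← hc, isClassFunction_irr χ]
  obtain ⟨f, hf, hf1⟩ := exists_degree_pos χ
  rw [hf1, Complex.natCast_re] at hm hlt
  -- `n` times the multiplicity of the trivial character on `P`
  obtain ⟨m₀, hm₀⟩ := exists_classInner_nat
    (isCharacter_comp (P : Subgroup G).subtype (isCharacter_irr χ))
    (isCharacter_one (G := (P : Subgroup G)))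
  have hP1 : (f : ℂ) + ((n : ℂ) - 1) * (s : ℂ) = (n : ℂ) * (m₀ : ℂ) := by
    rw [Cfsg.classInner, inv_mul_eq_iff_eq_mul₀ (Nat.cast_ne_zero.2 Nat.card_pos.ne')] at hm₀
    rw [hn, ← hm₀, ← Finset.add_sum_erase _ _ (Finset.mem_univ (1 : (P : Subgroup G)))]
    simp only [Pi.one_apply, map_one, mul_one, Function.comp_apply, Subgroup.coe_subtype,
      OneMemClass.coe_one, hf1]
    rw [Finset.sum_eq_card_nsmul (b := (s : ℂ)) fun a ha => ?_,
      Finset.card_erase_of_mem (Finset.mem_univ _), Finset.card_univ,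
      ← Nat.card_eq_fintype_card, nsmul_eq_mul, Nat.cast_sub Nat.card_pos, Nat.cast_one]
    have ha1 : (a : G) ≠ 1 := fun h => (Finset.ne_of_mem_erase ha) (Subtype.ext h)
    obtain ⟨c, hc⟩ := isConj_iff.1 (hcl x a hx (orderOf_eq_prime (hexp a a.2) ha1))
    rw [← hc, isClassFunction_irr χ, hval]
  -- `s` is an integer
  obtain ⟨S₀, hS₀⟩ : ∃ j : ℤ, (s : ℂ) = j := by
    refine Zassenhaus.AbelianChars.exists_int_of_mul_eq
      (hval ▸ isIntegral_apply (isCharacter_irr χ) x) (d := (n : ℤ) - 1) (by omega)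
      (m := (n : ℤ) * m₀ - f) ?_
    push_cast
    linear_combination hP1
  have hsR : s = (S₀ : ℝ) := by
    have := congrArg Complex.re hS₀
    simpa using this
  have hdiv : (n : ℤ) ∣ (f : ℤ) - S₀ := by
    refine ⟨(m₀ : ℤ) - S₀, ?_⟩
    have : ((f : ℤ) : ℂ) + (((n : ℤ) : ℂ) - 1) * (S₀ : ℂ) = ((n : ℤ) : ℂ) * ((m₀ : ℤ) : ℂ) := by
      rw [← hS₀]; exact_mod_cast hP1
    have h2 : (f : ℤ) + ((n : ℤ) - 1) * S₀ = (n : ℤ) * m₀ := by exact_mod_cast this
    linear_combination h2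
  have hlt1 : S₀ < (f : ℤ) := by
    have : (s : ℝ) < f := by
      have hwR : (1 : ℝ) ≤ (Nat.card {i : ι // z i ≠ 1} : ℝ) := by exact_mod_cast hw
      nlinarith
    rw [hsR] at this
    exact_mod_cast this
  have hfge : s + q ≤ f := by
    have h1 := Int.le_of_dvd (by omega) hdiv
    have h2 : S₀ + (n : ℤ) ≤ f := by omega
    rw [hsR, hq]
    exact_mod_cast h2
  have hsge := arith_one hp' hq3 rfl hfge hlt
  have hsge' : q - 1 ≤ s := by
    rw [hsR, hq] at hsge ⊢
    have : ((n : ℤ) : ℤ) - 2 < S₀ := by exact_mod_cast hsge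
    have h2 : (n : ℤ) - 1 ≤ S₀ := by omega
    exact_mod_cast h2
  have hbound : weight M p χ ^ 2 + weight M p (oneChar G) ^ 2 ≤ q := by
    rw [← hsq, ← Finset.sum_pair (f := fun ψ => weight M p ψ ^ 2) hχ1]
    exact Finset.sum_le_univ_sum_of_nonneg fun ψ => sq_nonneg _
  rw [weight_oneChar M hM hS, weight, if_pos hχB, ← hs, one_pow] at hbound
  nlinarith

end Cfsg.Agent.Lib.PairPSolvable
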