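import Cfsg.Agent.Lib.PairPSolvable.CyclicSetup
import Cfsg.Agent.Lib.PairPSolvable.OneClass

/-!
# No simple group with a cyclic Sylow subgroup is pairwise `p`-solvable

A simple group with a nontrivial cyclic Sylow `p`-subgroup and no normal `p`-complement has two
elements of order `p` generating a subgroup which is not `p`-solvable.
-/

set_option autoImplicit false
set_option linter.unusedSectionVars false
set_option linter.style.haveILetI false

open Cfsg.Agent.Lib.Characters.Basic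

namespace Cfsg.Agent.Lib.PairPSolvable

universe u

theorem arith_cyclic {p' n A Q s w f L φ Y : ℝ} (hp3 : 3 ≤ p') (hA : A = (p' - 2) * Q - (p' - 1))
    (hA2 : Q ^ 2 ≤ A ^ 2 * p') (hA0 : 0 ≤ A)
    (hlt : ((p' - 2) / (p' - 1) * Q - 1) * f < (Q - 1) * s)
    (hm : (p' - 1) * s = (p' - 1) * f - p' * w)
    (hφ : φ * p' = n * (p' - 1)) (hQL : Q * (p' - 1) ≤ n * L)
    (horb : φ * s ^ 2 ≤ Y * L) (hY : Y = Q - 1) (hLw : L ≤ w) (hL : 0 < L) (hn : 0 < n) : False := by
  subst hY
  have h1 : (0 : ℝ) < p' - 1 := by linarith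
  have hc : ((p' - 2) / (p' - 1) * Q - 1) * (p' - 1) = A := by
    rw [hA, sub_mul, div_mul_eq_mul_div, div_mul_cancel₀ _ h1.ne']; ring
  have h2 : A * f < (Q - 1) * s * (p' - 1) := by
    rw [← hc, mul_right_comm]; exact mul_lt_mul_of_pos_right hlt h1
  have hw : 0 < w := lt_of_lt_of_le hL hLw
  -- `A p w < Q (p - 1) s`
  have h3 : A * p' * w < Q * (p' - 1) * s := by
    have e : A * ((p' - 1) * f) = A * ((p' - 1) * s + p' * w) := by
      rw [show (p' - 1) * s + p' * w = (p' - 1) * f by linarith]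
    have h2' : A * f * (p' - 1) < (Q - 1) * s * (p' - 1) * (p' - 1) := mul_lt_mul_of_pos_right h2 h1
    have h3' : A * ((p' - 1) * s + p' * w) < (Q - 1) * s * (p' - 1) * (p' - 1) := by linarith
    have e2 : (Q - 1) * (p' - 1) - A = Q := by rw [hA]; ring
    have h4 : A * p' * w < ((Q - 1) * (p' - 1) - A) * ((p' - 1) * s) := by
      linear_combination h3'
    rw [e2] at h4
    linear_combination h4
  have h4 : 0 ≤ A * p' * w := by positivity
  have h5 : (A * p' * w) ^ 2 < (Q * (p' - 1) * s) ^ 2 := pow_lt_pow_left₀ h3 h4 two_ne_zero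
  -- `(p - 1)² s² ≤ p w²`
  have h6 : n * ((p' - 1) ^ 2 * s ^ 2) ≤ n * (p' * w ^ 2) := by
    have e1 : φ * p' * ((p' - 1) * s ^ 2) ≤ (Q - 1) * L * p' * (p' - 1) := by
      have := mul_le_mul_of_nonneg_right horb (show (0 : ℝ) ≤ p' * (p' - 1) by positivity)
      linear_combination this
    rw [hφ] at e1
    have e2 : (Q - 1) * (p' - 1) ≤ n * L := by nlinarith
    have e3 : (Q - 1) * (p' - 1) * (L * p') ≤ n * L * (L * p') :=
      mul_le_mul_of_nonneg_right e2 (by positivity)
    have e4 : L * L ≤ w * w := mul_le_mul hLw hLw hL.le hw.le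
    have e5 : n * p' * (L * L) ≤ n * p' * (w * w) := mul_le_mul_of_nonneg_left e4 (by positivity)
    linear_combination e1 + e3 + e5
  have h7 : (p' - 1) ^ 2 * s ^ 2 ≤ p' * w ^ 2 := le_of_mul_le_mul_left h6 hn
  have h8 : Q ^ 2 * ((p' - 1) ^ 2 * s ^ 2) ≤ A ^ 2 * p' * (p' * w ^ 2) := by
    refine mul_le_mul hA2 h7 (by positivity) (by positivity)
  have ea : (A * p' * w) ^ 2 = A ^ 2 * p' * (p' * w ^ 2) := by ring
  have eb : (Q * (p' - 1) * s) ^ 2 = Q ^ 2 * ((p' - 1) ^ 2 * s ^ 2) := by ring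
  linarith

variable {p : ℕ} [hp : Fact p.Prime] {G : Type u} [Group G] [Finite G]

theorem false_of_cyclic [IsSimpleGroup G] (P : Sylow p G) (hPc : IsCyclic (P : Subgroup G))
    (hne : (P : Subgroup G) ≠ ⊥)
    (hnot : ¬ Subgroup.normalizer ((P : Subgroup G) : Set G) ≤
      Subgroup.centralizer ((P : Subgroup G) : Set G))
    (hpair : PairSolvable p G) : False := by
  classical
  haveI := Fintype.ofFinite G
  haveI := Fintype.ofFinite (Cfsg.IrrCharacter G)
  obtain ⟨⟨v, hvP⟩, hgen⟩ := hPc.exists_generator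
  have hv : (P : Subgroup G) = Subgroup.zpowers v := by
    refine le_antisymm (fun g hg => ?_) (Subgroup.zpowers_le.2 hvP)
    obtain ⟨k, hk⟩ := hgen ⟨g, hg⟩
    exact ⟨k, congrArg Subtype.val hk⟩
  obtain ⟨a, ha⟩ := IsPGroup.iff_card.1 P.2
  have hov : orderOf v = p ^ a := by rw [← ha, hv, Nat.card_zpowers]
  have ha0 : a ≠ 0 := by
    rintro rfl
    rw [pow_zero] at ha
    exact hne (Subgroup.card_eq_one.1 ha)
  obtain ⟨b, rfl⟩ : ∃ b, a = b + 1 := ⟨a - 1, by omega⟩
  set x := v ^ p ^ b with hxdef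
  have hx : orderOf x = p := by
    rw [hxdef, orderOf_pow_of_dvd (pow_ne_zero _ hp.out.ne_zero) (hov ▸ pow_dvd_pow p (Nat.le_succ b)),
      hov, pow_succ, Nat.mul_div_cancel_left _ (pow_pos hp.out.pos b)]
  have hx1 : x ≠ 1 := fun h => by
    rw [h, orderOf_one] at hx; exact hp.out.ne_one hx.symm
  have hxP : x ∈ (P : Subgroup G) := pow_mem hvP _
  -- a normalizing element moving `x`
  obtain ⟨m, hmN, hmC⟩ := SetLike.not_le_iff_exists.1 hnot
  have hmx : m * x * m⁻¹ ≠ x := by
    intro h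
    refine hmC (Subgroup.mem_centralizer_iff.2 fun g hg => ?_)
    have h1 := normalizer_le_centralizer_aux P hv hxP hx hmN h
    rw [SetLike.mem_coe, hv] at hg
    obtain ⟨k, rfl⟩ := hg
    exact ((Commute.zpow_right (mul_inv_eq_iff_eq_mul.1 h1 : Commute m v) k).eq).symm
  obtain ⟨j, hj⟩ : ∃ j : ℕ, x ^ j = m * x * m⁻¹ :=
    mem_zpowers_x P hv hxP hx ((Subgroup.mem_normalizer_iff.1 hmN x).1 hxP)
      (by rw [conj_pow, ← hx, pow_orderOf_eq_one, mul_one, mul_inv_cancel])
  have hmX : m ∈ Subgroup.normalizer (Subgroup.zpowers x : Set G) := by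
    refine ConjFunctor.Basic.mem_normalizer_of_forall ?_
    rintro _ ⟨e, rfl⟩
    show m * x ^ e * m⁻¹ ∈ Subgroup.zpowers x
    rw [← conj_zpow, ← hj]
    exact zpow_mem (pow_mem (Subgroup.mem_zpowers x) _) _
  have hjp : ¬ p ∣ j := by
    rintro ⟨r, rfl⟩
    rw [pow_mul, ← hx, pow_orderOf_eq_one, one_pow] at hj
    exact hx1 (by
      calc x = m⁻¹ * (m * x * m⁻¹) * m := by group
        _ = 1 := by rw [← hj]; group)
  have hp3 : 3 ≤ p := by
    by_contra hlt
    have hp2 : p = 2 := by have := hp.out.two_le; omega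
    refine hmx ?_
    rw [← hj]
    conv_rhs => rw [← pow_one x]
    rw [pow_eq_pow_iff_modEq, hx]
    subst hp2
    exact Nat.ModEq.symm (by rw [Nat.ModEq]; omega)
  have hP := commute_sylow P hv hxP hx
  have hcon := exists_conj_pow P hv hxP hx
  have hC := hasNormalPComplement_centralizer_all P hv hxP hx
  -- order `3`: one class
  by_cases hsmall : p = 3 ∧ b = 0
  · obtain ⟨rfl, rfl⟩ := hsmall
    refine false_of_oneClass (by norm_num) P hP (fun a ha' => ?_) hne ?_
      (fun u hu => hC u (mem_ordSet.2 hu)) hpair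
    · have := pow_card_eq_one' (x := (⟨a, ha'⟩ : (P : Subgroup G)))
      rw [ha] at this
      simpa using congrArg Subtype.val this
    · have hxu : ∀ u : G, orderOf u = 3 → IsConj x u := by
        intro u hu
        obtain ⟨c, i, hi, rfl⟩ := hcon u (mem_ordSet.2 hu)
        have hi3 : i % 3 = 1 ∨ i % 3 = 2 := by omega
        have hj3 : j % 3 = 2 := by
          by_contra h
          have hj1 : j % 3 = 1 := by omega
          refine hmx ?_
          rw [← hj]
          conv_rhs => rw [← pow_one x]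
          rw [pow_eq_pow_iff_modEq, hx, Nat.ModEq, hj1]
        rcases hi3 with h | h
        · refine isConj_iff.2 ⟨c, ?_⟩
          congr 2
          conv_lhs => rw [← pow_one x]
          rw [pow_eq_pow_iff_modEq, hx, Nat.ModEq, h]
        · refine isConj_iff.2 ⟨c * m, ?_⟩
          have e : x ^ j = x ^ i := by rw [pow_eq_pow_iff_modEq, hx, Nat.ModEq, hj3, h]
          rw [← e, hj]; group
      intro u w hu hw
      exact (hxu u hu).symm.trans (hxu w hw)
  have hS : (ordSet p G).Nonempty := ⟨x, mem_ordSet.2 hx⟩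
  obtain ⟨D, d, hD, hd, hd0, hcC⟩ := exists_data P hP hxP hx hcon hC
  set C := Subgroup.centralizer ({x} : Set G) with hCdef
  set N := Subgroup.normalizer (Subgroup.zpowers x : Set G) with hNdef
  have hCN : C ≤ N := by
    intro g hg
    refine ConjFunctor.Basic.mem_normalizer_of_forall ?_
    rintro _ ⟨e, rfl⟩
    show g * x ^ e * g⁻¹ ∈ Subgroup.zpowers x
    rw [(Commute.zpow_right (Subgroup.mem_centralizer_singleton_iff.1 hg) e).eq, mul_inv_cancel_right]
    exact ⟨e, rfl⟩
  set E := C.relIndex N with hEdef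
  have hE2 : 2 ≤ E := by
    have h0 : E ≠ 0 := by
      rw [hEdef, Subgroup.relIndex]; exact Subgroup.index_ne_zero_of_finite
    have h1 : E ≠ 1 := by
      intro h
      rw [hEdef, Subgroup.relIndex_eq_one] at h
      have := Subgroup.mem_centralizer_singleton_iff.1 (h hmX)
      exact hmx (by rw [this, mul_inv_cancel_right])
    omega
  have hNcard : Nat.card N = d * p ^ (b + 1) * E := by
    rw [← ha, ← hcC, hEdef, Subgroup.relIndex,
      ← Nat.card_congr (Subgroup.subgroupOfEquivOfLe hCN).toEquiv, Subgroup.card_mul_index]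
  have hcount := card_ordSet_mul P hv hxP hx
  rw [← hNdef, hNcard] at hcount
  set p' : ℝ := (p : ℝ) with hp'
  set n : ℝ := ((p ^ (b + 1) : ℕ) : ℝ) with hn
  have hp3' : (3 : ℝ) ≤ p' := by rw [hp']; exact_mod_cast hp3
  have hp1 : (0 : ℝ) < p' - 1 := by linarith
  set Q : ℝ := (E : ℝ) * n / (p' - 1) with hQdef
  have hn0 : 0 < n := by rw [hn]; exact Nat.cast_pos.2 (pow_pos hp.out.pos _)
  have hQ : Q * ((d : ℝ) * ((ordSet p G).card : ℝ)) = (Nat.card G : ℝ) := by
    have h := congrArg (fun t : ℕ => (t : ℝ)) hcount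
    simp only [Nat.cast_mul, Nat.cast_sub hp.out.one_le, Nat.cast_one, ← hn, ← hp'] at h
    rw [hQdef, div_mul_eq_mul_div, div_eq_iff hp1.ne']
    linear_combination h
  have hEn : 2 * n ≤ Q * (p' - 1) := by
    rw [hQdef, div_mul_cancel₀ _ hp1.ne']
    have : (2 : ℝ) ≤ (E : ℝ) := by exact_mod_cast hE2
    exact mul_le_mul_of_nonneg_right this hn0.le
  have hnp : p' ≤ n := by
    rw [hn, hp']; exact_mod_cast Nat.le_self_pow (Nat.succ_ne_zero b) p
  have hQ2 : 2 < Q := by
    by_contra h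
    rw [not_lt] at h
    nlinarith [mul_le_mul_of_nonneg_right h hp1.le]
  set A : ℝ := (p' - 2) * Q - (p' - 1) with hA
  have hA2 : Q ^ 2 ≤ A ^ 2 * p' ∧ 0 ≤ A := by
    rcases Nat.lt_or_ge 3 p with h | h
    · have h5 : 5 ≤ p := by
        have h4 : p ≠ 4 := fun e => by
          rw [e] at hp; exact absurd hp.out (by norm_num)
        omega
      have h5' : (5 : ℝ) ≤ p' := by rw [hp']; exact_mod_cast h5
      have hAQ : Q ≤ A := by rw [hA]; nlinarith
      refine ⟨?_, by linarith⟩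
      nlinarith [mul_le_mul hAQ hAQ (by linarith) (by linarith)]
    · have hp3e : p = 3 := by omega
      subst hp3e
      have hb : 1 ≤ b := by
        by_contra hb; exact hsmall ⟨rfl, by omega⟩
      have h9 : (9 : ℝ) ≤ n := by
        rw [hn]; exact_mod_cast Nat.pow_le_pow_right (by norm_num : 0 < 3) (show 2 ≤ b + 1 by omega)
      have hp'3 : p' = 3 := by rw [hp']; norm_num
      have hQ9 : 9 ≤ Q := by rw [hp'3] at hEn; linarith
      have hAv : A = Q - 2 := by rw [hA, hp'3]; ring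
      rw [hAv, hp'3]
      exact ⟨by nlinarith, by linarith⟩
  have hQc : 1 ≤ (p' - 2) / (p' - 1) * Q := by
    rw [div_mul_eq_mul_div, le_div_iff₀ hp1]
    have := hA2.2
    rw [hA] at this
    linarith
  obtain ⟨M, hM⟩ := Blocks.exists_isPModular p hp.out
  obtain ⟨hsq, χ, hχ1, hχB, hlt⟩ :=
    exists_large P hP hpair M hM D d hD hd hd0 hS hQ (by linarith) hQc
  obtain ⟨ι, _, z, hz, hsum⟩ := exists_roots (isCharacter_irr χ) v
  have hsum' : ∀ e : ℕ, (χ : G → ℂ) (x ^ e) = ∑ i, (z i ^ p ^ b) ^ e := fun e => by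
    rw [hxdef, ← pow_mul, hsum]; simp only [← pow_mul]
  have hz' : ∀ i, (z i ^ p ^ b) ^ p = 1 := fun i => by
    rw [← pow_mul, ← pow_succ, ← hov, hz]
  have hm := mean_formula χ hcon hS (fun i => z i ^ p ^ b) hz' hsum'
  have hw := card_moved_pos hχ1 hx1 (fun i => z i ^ p ^ b) hsum'
  have hprim : ∀ i, z i ^ p ^ b ≠ 1 ↔ IsPrimitiveRoot (z i) (orderOf v) := by
    intro i
    rw [IsPrimitiveRoot.iff_orderOf, hov]
    constructor
    · exact fun h => orderOf_eq_prime_pow h (by rw [← hov]; exact hz i)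
    · intro h h1
      have := Nat.le_of_dvd (pow_pos hp.out.pos b) (h ▸ orderOf_dvd_of_pow_eq_one h1)
      exact absurd this (not_le.2 (Nat.pow_lt_pow_right hp.out.one_lt (Nat.lt_succ_self b)))
  obtain ⟨⟨i₀, hi₀⟩⟩ : Nonempty {i : ι // z i ^ p ^ b ≠ 1} := by
    rw [Nat.card_eq_fintype_card, Fintype.card_pos_iff] at hw; exact hw
  have hL := card_fixExp_le χ z hz hsum ((hprim i₀).1 hi₀)
  rw [← Nat.card_congr (Equiv.subtypeEquivRight hprim)] at hL
  have horb := orbit_bound hM D d hD hd hd0 hS χ hχ1 v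
  rw [hsq, weight, if_pos hχB] at horb
  have hE := relIndex_le P hv hxP hx χ
  rw [← hCdef, ← hNdef, ← hEdef] at hE
  have hLpos : 0 < Nat.card (fixExp χ v) := Nat.card_pos
  refine arith_cyclic (n := n) (L := (Nat.card (fixExp χ v) : ℝ)) hp3' hA hA2.1 hA2.2 hlt hm
    (φ := (Nat.totient (orderOf v) : ℝ)) ?_ ?_ horb rfl (by exact_mod_cast hL)
    (by exact_mod_cast hLpos) hn0
  · rw [hov, Nat.totient_prime_pow_succ hp.out, hn, hp', Nat.cast_mul, Nat.cast_pow,
      Nat.cast_sub hp.out.one_le, Nat.cast_one, Nat.cast_pow]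
    ring
  · rw [hQdef, div_mul_cancel₀ _ hp1.ne']
    rw [mul_comm]
    exact mul_le_mul_of_nonneg_left (by exact_mod_cast hE) hn0.le

end Cfsg.Agent.Lib.PairPSolvable
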