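import Cfsg.Agent.Lib.PairPSolvable.Orbit
import Cfsg.Agent.Lib.Transfer.PResidual
import Cfsg.Agent.Lib.ConjFunctor.Basic

/-!
# Cyclic Sylow subgroups: centralizers and normalizers of the subgroup of order `p`

With a cyclic Sylow `p`-subgroup `⟨v⟩` and `x ∈ ⟨v⟩` of order `p`: `C(x)` has a normal `p`-complement,
every element of order `p` is conjugate to a power of `x`, the number of these elements is
`(p - 1) |G : N(⟨x⟩)|`, and `|N(⟨x⟩) : C(x)|` is at most the number of exponents fixing the values of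
any character on `⟨v⟩`.
-/

set_option autoImplicit false
set_option linter.unusedSectionVars false
set_option linter.style.haveILetI false

open Cfsg.Agent.Lib.Characters.Basic

namespace Cfsg.Agent.Lib.PairPSolvable

universe u

variable {p : ℕ} [hp : Fact p.Prime] {G : Type u} [Group G] [Fintype G]
  (P : Sylow p G) {v x : G} (hv : (P : Subgroup G) = Subgroup.zpowers v)
  (hxP : x ∈ (P : Subgroup G)) (hx : orderOf x = p)

include hv hxP hx

theorem commute_sylow : ∀ a ∈ (P : Subgroup G), ∀ b ∈ (P : Subgroup G), a * b = b * a := by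
  intro a ha b hb
  rw [hv] at ha hb
  obtain ⟨i, rfl⟩ := ha
  obtain ⟨j, rfl⟩ := hb
  exact zpow_mul_comm v i j

theorem mem_zpowers_x {u : G} (huP : u ∈ (P : Subgroup G)) (hu : u ^ p = 1) :
    ∃ i : ℕ, x ^ i = u := by
  classical
  haveI : IsCyclic (P : Subgroup G) := by rw [hv]; infer_instance
  set T : Subgroup (P : Subgroup G) := Subgroup.zpowers ⟨x, hxP⟩
  have hT : Nat.card T = p := by rw [Nat.card_zpowers, Subgroup.orderOf_mk, hx]
  have hsub : (⟨u, huP⟩ : (P : Subgroup G)) ∈ T := by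
    set U : Finset (P : Subgroup G) := Finset.univ.filter fun a => a ^ p = 1
    have hU : U.card ≤ p := IsCyclic.card_pow_eq_one_le hp.out.pos
    have hTU : (T : Set (P : Subgroup G)).toFinset ⊆ U := by
      intro a ha
      rw [Set.mem_toFinset] at ha
      refine Finset.mem_filter.2 ⟨Finset.mem_univ _, ?_⟩
      obtain ⟨k, rfl⟩ := ha
      show ((⟨x, hxP⟩ : (P : Subgroup G)) ^ k) ^ p = 1
      rw [← zpow_natCast, ← zpow_mul, mul_comm, zpow_mul, zpow_natCast,
        show (⟨x, hxP⟩ : (P : Subgroup G)) ^ p = 1 from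
          Subtype.ext (orderOf_dvd_iff_pow_eq_one.1 hx.dvd), one_zpow]
    have heq : (T : Set (P : Subgroup G)).toFinset = U := by
      refine Finset.eq_of_subset_of_card_le hTU ?_
      rw [Set.toFinset_card, ← Nat.card_eq_fintype_card]
      exact hU.trans (le_of_eq hT.symm)
    rw [← SetLike.mem_coe, ← Set.mem_toFinset, heq]
    exact Finset.mem_filter.2 ⟨Finset.mem_univ _, Subtype.ext (by
      rw [SubmonoidClass.coe_pow]; exact hu)⟩
  obtain ⟨i, hi⟩ := mem_powers_iff_mem_zpowers.2 hsub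
  exact ⟨i, congrArg Subtype.val hi⟩

theorem exists_conj_pow : ∀ u ∈ ordSet p G, ∃ (c : G) (i : ℕ), ¬ p ∣ i ∧ c * x ^ i * c⁻¹ = u := by
  intro u hu
  have hu' := mem_ordSet.1 hu
  have hQ : IsPGroup p (Subgroup.zpowers u) :=
    IsPGroup.of_card (n := 1) (by rw [Nat.card_zpowers, hu', pow_one])
  obtain ⟨T, hT⟩ := hQ.exists_le_sylow
  obtain ⟨g, rfl⟩ := MulAction.exists_smul_eq G P T
  have h := hT (Subgroup.mem_zpowers u)
  rw [Sylow.coe_subgroup_smul, Subgroup.mem_pointwise_smul_iff_inv_smul_mem] at h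
  have h' : g⁻¹ * u * g ∈ (P : Subgroup G) := by simpa [MulAut.inv_def] using h
  obtain ⟨i, hi⟩ := mem_zpowers_x P hv hxP hx h' (by
    rw [show g⁻¹ * u * g = g⁻¹ * u * g⁻¹⁻¹ by rw [inv_inv], conj_pow, ← hu', pow_orderOf_eq_one]
    simp)
  refine ⟨g, i, fun hd => ?_, by rw [hi]; group⟩
  obtain ⟨r, rfl⟩ := hd
  rw [pow_mul, ← hx, pow_orderOf_eq_one, one_pow] at hi
  have : u = 1 := by
    calc u = g * (g⁻¹ * u * g) * g⁻¹ := by group
      _ = 1 := by rw [← hi]; group
  rw [this, orderOf_one] at hu'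
  exact hp.out.ne_one hu'.symm

theorem normalizer_le_centralizer_aux {m : G} (hmP : m ∈ Subgroup.normalizer ((P : Subgroup G) : Set G))
    (hmx : m * x * m⁻¹ = x) : m * v * m⁻¹ = v := by
  have hvP : v ∈ (P : Subgroup G) := by rw [hv]; exact Subgroup.mem_zpowers v
  have hmv : m * v * m⁻¹ ∈ (P : Subgroup G) := (Subgroup.mem_normalizer_iff.1 hmP v).1 hvP
  rw [hv] at hmv
  obtain ⟨k, hk⟩ := mem_powers_iff_mem_zpowers.2 hmv
  replace hk : v ^ k = m * v * m⁻¹ := hk
  obtain ⟨a, ha⟩ := IsPGroup.iff_card.1 P.2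
  rw [hv, Nat.card_zpowers] at ha
  -- `x = v ^ s` and `k ≡ 1` modulo `p`
  rw [hv] at hxP
  obtain ⟨s, hs⟩ := mem_powers_iff_mem_zpowers.2 hxP
  replace hs : v ^ s = x := hs
  have hk1 : k ≡ 1 [MOD p] := by
    rw [← hx, ← pow_eq_pow_iff_modEq, pow_one]
    calc x ^ k = (v ^ k) ^ s := by rw [← hs, ← pow_mul, mul_comm, pow_mul]
      _ = m * x * m⁻¹ := by rw [hk, conj_pow, hs]
      _ = x := hmx
  have hiter : ∀ j : ℕ, m ^ j * v * (m ^ j)⁻¹ = v ^ (k ^ j) := by
    intro j
    induction j with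
    | zero => simp
    | succ j ih =>
      rw [pow_succ, pow_succ, pow_mul, ← ih, conj_pow, hk]
      group
  have hpow : k ^ p ^ a ≡ 1 [MOD p ^ (a + 1)] := by
    have h : ((p : ℤ) : ℤ) ∣ (k : ℤ) - 1 := by
      have := Nat.modEq_iff_dvd.1 hk1.symm
      simpa using this
    have h2 := dvd_sub_pow_of_dvd_sub (R := ℤ) (p := p) (a := (k : ℤ)) (b := 1) h a
    rw [one_pow] at h2
    refine (Nat.modEq_iff_dvd.2 ?_).symm
    push_cast
    exact h2
  have hcen : Commute (m ^ p ^ a) v := by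
    have h := hiter (p ^ a)
    rw [pow_eq_pow_iff_modEq.2 ((hpow.of_dvd ?_) : k ^ p ^ a ≡ 1 [MOD orderOf v]), pow_one,
      mul_inv_eq_iff_eq_mul] at h
    · exact h
    · rw [ha]; exact pow_dvd_pow p (Nat.le_succ a)
  -- split `m` into its `p`-part and `p'`-part
  obtain ⟨w, hw⟩ := Blocks.exists_isPPart hp.out m
  have hwm := BrauerMap.PrincipalSection.isPPart_mem_zpowers hp.out hw
  obtain ⟨y, hy, hc, ⟨j, hj⟩, hyr⟩ := hw
  have hwP : w ∈ (P : Subgroup G) := by
    have hwN : w ∈ Subgroup.normalizer ((P : Subgroup G) : Set G) :=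
      (Subgroup.zpowers_le.2 hmP) hwm
    have hQ : IsPGroup p ((P : Subgroup G) ⊔ Subgroup.zpowers w : Subgroup G) :=
      IsPGroup.to_sup_of_normal_left' P.2
        (IsPGroup.of_card (n := j) (by rw [Nat.card_zpowers, hj]))
        (Subgroup.zpowers_le.2 hwN)
    rw [← P.is_maximal' hQ le_sup_left]
    exact le_sup_right (a := (P : Subgroup G)) (Subgroup.mem_zpowers w)
  have hwv : Commute w v := by
    rw [hv] at hwP
    obtain ⟨i, rfl⟩ := hwP
    exact (Commute.refl v).zpow_left i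
  have hyv : Commute y v := by
    have h1 : Commute (y ^ p ^ a) v := by
      have hsplit : y ^ p ^ a = (w ^ p ^ a)⁻¹ * m ^ p ^ a := by
        rw [← hy, hc.mul_pow, inv_mul_cancel_left]
      rw [hsplit]
      exact ((hwv.pow_left _).inv_left).mul_left hcen
    obtain ⟨n, hn⟩ := exists_pow_eq_self_of_coprime (x := y) (n := p ^ a)
      (((Nat.Prime.coprime_iff_not_dvd hp.out).2 hyr).pow_left a)
    rw [← hn]
    exact h1.pow_left n
  have hmc : Commute m v := by rw [← hy]; exact hwv.mul_left hyv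
  rw [hmc.eq, mul_inv_cancel_right]

theorem hasNormalPComplement_centralizer :
    Cfsg.HasNormalPComplement p (Subgroup.centralizer ({x} : Set G)) := by
  set C := Subgroup.centralizer ({x} : Set G) with hC
  have hPC : (P : Subgroup G) ≤ C := fun g hg => Subgroup.mem_centralizer_singleton_iff.2
    (commute_sylow P hv hxP hx g hg x hxP)
  set Q := P.subtype hPC with hQ
  have hle : Subgroup.normalizer ((Q : Subgroup C) : Set C) ≤
      Subgroup.centralizer ((Q : Subgroup C) : Set C) := by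
    intro m hm
    have hmN : (m : G) ∈ Subgroup.normalizer ((P : Subgroup G) : Set G) := by
      refine ConjFunctor.Basic.mem_normalizer_of_forall fun a ha => ?_
      have := (Subgroup.mem_normalizer_iff.1 hm ⟨a, hPC ha⟩).1 (by
        rw [hQ, Sylow.coe_subtype, Subgroup.mem_subgroupOf]; exact ha)
      rw [hQ, Sylow.coe_subtype, Subgroup.mem_subgroupOf] at this
      simpa using this
    have h1 := normalizer_le_centralizer_aux P hv hxP hx hmN (by
      rw [Subgroup.mem_centralizer_singleton_iff.1 m.2, mul_inv_cancel_right])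
    refine Subgroup.mem_centralizer_iff.2 fun a ha => Subtype.ext ?_
    rw [hQ, Sylow.coe_subtype, SetLike.mem_coe, Subgroup.mem_subgroupOf, hv] at ha
    obtain ⟨i, hi⟩ := ha
    have hc : Commute (m : G) v := mul_inv_eq_iff_eq_mul.1 h1
    rw [Subgroup.coe_mul, Subgroup.coe_mul, ← hi]
    exact ((hc.zpow_right i).eq).symm
  exact ⟨Q, _, MonoidHom.normal_ker _, MonoidHom.ker_transferSylow_isComplement' Q hle⟩

theorem hasNormalPComplement_centralizer_all : ∀ u ∈ ordSet p G,
    Cfsg.HasNormalPComplement p (Subgroup.centralizer ({u} : Set G)) := by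
  intro u hu
  obtain ⟨c, i, hi, rfl⟩ := exists_conj_pow P hv hxP hx u hu
  obtain ⟨m, hm⟩ := exists_pow_eq_self_of_coprime (x := x) (n := i)
    (hx.symm ▸ ((Nat.Prime.coprime_iff_not_dvd hp.out).2 hi).symm)
  have hC : Subgroup.centralizer ({c * x ^ i * c⁻¹} : Set G) =
      (Subgroup.centralizer ({x} : Set G)).map (MulAut.conj c).toMonoidHom := by
    ext g
    constructor
    · intro hg
      rw [Subgroup.mem_centralizer_singleton_iff] at hg
      refine ⟨c⁻¹ * g * c, Subgroup.mem_centralizer_singleton_iff.2 ?_, by simp [mul_assoc]⟩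
      have h1 : Commute (c⁻¹ * g * c) (x ^ i) := by
        show c⁻¹ * g * c * x ^ i = x ^ i * (c⁻¹ * g * c)
        calc c⁻¹ * g * c * x ^ i = c⁻¹ * (g * (c * x ^ i * c⁻¹)) * c := by group
          _ = c⁻¹ * (c * x ^ i * c⁻¹ * g) * c := by rw [hg]
          _ = x ^ i * (c⁻¹ * g * c) := by group
      have h2 := h1.pow_right m
      rw [hm] at h2
      exact h2
    · rintro ⟨g, hg, rfl⟩
      rw [Subgroup.mem_centralizer_singleton_iff]
      have h2 : g * x ^ i = x ^ i * g :=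
        Commute.pow_right (Subgroup.mem_centralizer_singleton_iff.1 hg) i
      show c * g * c⁻¹ * (c * x ^ i * c⁻¹) = c * x ^ i * c⁻¹ * (c * g * c⁻¹)
      calc c * g * c⁻¹ * (c * x ^ i * c⁻¹) = c * (g * x ^ i) * c⁻¹ := by group
        _ = c * (x ^ i * g) * c⁻¹ := by rw [h2]
        _ = _ := by group
  rw [hC]
  exact (Transfer.PResidual.hasNormalPComplement_congr
    (Subgroup.equivMapOfInjective _ _ (MulAut.conj c).injective).symm).2
      (hasNormalPComplement_centralizer P hv hxP hx)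

theorem card_ordSet_mul :
    (ordSet p G).card * Nat.card (Subgroup.normalizer (Subgroup.zpowers x : Set G)) =
      Nat.card G * (p - 1) := by
  classical
  set N := Subgroup.normalizer (Subgroup.zpowers x : Set G) with hN
  set J := Finset.Icc 1 (p - 1)
  have hJ : ∀ i ∈ J, ¬ p ∣ i ∧ i < p := fun i hi => by
    obtain ⟨h1, h2⟩ := Finset.mem_Icc.1 hi
    exact ⟨fun hd => by have := Nat.le_of_dvd h1 hd; omega, by omega⟩
  have hord : ∀ (g : G) (i : ℕ), ¬ p ∣ i → g * x ^ i * g⁻¹ ∈ ordSet p G := fun g i hi => by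
    rw [ordSet_conj, mem_ordSet, orderOf_pow, hx,
      ((Nat.Prime.coprime_iff_not_dvd hp.out).2 hi).gcd_eq_one, Nat.div_one]
  have hmaps : ∀ a ∈ (Finset.univ : Finset G) ×ˢ J, a.1 * x ^ a.2 * a.1⁻¹ ∈ ordSet p G :=
    fun a ha => hord _ _ (hJ _ (Finset.mem_product.1 ha).2).1
  have hcard := Finset.card_eq_sum_card_fiberwise hmaps
  rw [Finset.card_product, Finset.card_univ, ← Nat.card_eq_fintype_card, Nat.card_Icc,
    show p - 1 + 1 - 1 = p - 1 by omega] at hcard
  rw [hcard, ← smul_eq_mul (a := (ordSet p G).card), ← Finset.sum_const]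
  refine Finset.sum_congr rfl fun u hu => ?_
  obtain ⟨c, i₀, hi₀, rfl⟩ := exists_conj_pow P hv hxP hx u hu
  -- exponents modulo `p`
  have hmod : ∀ i j : ℕ, x ^ i = x ^ j → i ≡ j [MOD p] := fun i j h => by
    rw [← hx, ← pow_eq_pow_iff_modEq]; exact h
  have hnorm : ∀ g : G, (∃ i, ¬ p ∣ i ∧ g * x ^ i * g⁻¹ = x ^ i₀) → g ∈ N := by
    rintro g ⟨i, hi, hgi⟩
    obtain ⟨m, hm⟩ := exists_pow_eq_self_of_coprime (x := x) (n := i)
      (hx.symm ▸ ((Nat.Prime.coprime_iff_not_dvd hp.out).2 hi).symm)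
    have hgx : g * x * g⁻¹ = (x ^ i₀) ^ m := by
      conv_lhs => rw [← hm]
      rw [← conj_pow, hgi]
    refine ConjFunctor.Basic.mem_normalizer_of_forall ?_
    rintro _ ⟨e, rfl⟩
    show g * x ^ e * g⁻¹ ∈ Subgroup.zpowers x
    rw [← conj_zpow, hgx]
    exact zpow_mem (pow_mem (pow_mem (Subgroup.mem_zpowers x) _) _) _
  rw [Nat.card_eq_fintype_card, ← Finset.card_univ]
  refine (Finset.card_bij (fun a ha => (⟨c⁻¹ * a.1, ?_⟩ : N)) (fun a _ => Finset.mem_univ _) ?_ ?_).symm
  · obtain ⟨ha1, ha2⟩ := Finset.mem_filter.1 ha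
    refine hnorm _ ⟨a.2, (hJ _ (Finset.mem_product.1 ha1).2).1, ?_⟩
    calc c⁻¹ * a.1 * x ^ a.2 * (c⁻¹ * a.1)⁻¹ = c⁻¹ * (a.1 * x ^ a.2 * a.1⁻¹) * c := by group
      _ = x ^ i₀ := by rw [ha2]; group
  · intro a ha b hb hab
    obtain ⟨ha1, ha2⟩ := Finset.mem_filter.1 ha
    obtain ⟨hb1, hb2⟩ := Finset.mem_filter.1 hb
    have h1 : a.1 = b.1 := mul_left_cancel (congrArg Subtype.val hab)
    have h2 : a.1 * x ^ a.2 * a.1⁻¹ = a.1 * x ^ b.2 * a.1⁻¹ := by rw [ha2]; rw [h1]; exact hb2.symm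
    have h3 := hmod _ _ (mul_left_cancel (mul_right_cancel h2))
    exact Prod.ext h1 (h3.eq_of_lt_of_lt (hJ _ (Finset.mem_product.1 ha1).2).2
      (hJ _ (Finset.mem_product.1 hb1).2).2)
  · rintro ⟨n, hn⟩ -
    have hxm : n⁻¹ * x ^ i₀ * n ∈ Subgroup.zpowers x := by
      have := (Subgroup.mem_normalizer_iff.1 (inv_mem hn) (x ^ i₀)).1
        (pow_mem (Subgroup.mem_zpowers x) i₀)
      simpa using this
    obtain ⟨i, hi⟩ := mem_powers_iff_mem_zpowers.2 hxm
    replace hi : x ^ i = n⁻¹ * x ^ i₀ * n := hi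
    have hni : n * x ^ i * n⁻¹ = x ^ i₀ := by rw [hi]; group
    have him : x ^ (i % p) = x ^ i := pow_eq_pow_iff_modEq.2 (hx.symm ▸ Nat.mod_modEq i p)
    have hi0 : 1 ≤ i % p := by
      by_contra hlt
      have h0 : i % p = 0 := by omega
      rw [h0, pow_zero] at him
      rw [← him, mul_one, mul_inv_cancel] at hni
      exact hi₀ (by rw [← hx]; exact orderOf_dvd_of_pow_eq_one hni.symm)
    refine ⟨(c * n, i % p), Finset.mem_filter.2 ⟨Finset.mem_product.2
      ⟨Finset.mem_univ _, Finset.mem_Icc.2 ⟨hi0, ?_⟩⟩, ?_⟩, Subtype.ext (inv_mul_cancel_left c n)⟩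
    · have := Nat.mod_lt i hp.out.pos; omega
    · show c * n * x ^ (i % p) * (c * n)⁻¹ = c * x ^ i₀ * c⁻¹
      rw [him, ← hni]; group

theorem exists_adjust {m : G} (hm : m ∈ Subgroup.normalizer (Subgroup.zpowers x : Set G)) :
    ∃ c ∈ Subgroup.centralizer ({x} : Set G),
      c * m ∈ Subgroup.normalizer ((P : Subgroup G) : Set G) := by
  set C := Subgroup.centralizer ({x} : Set G) with hC
  have hPC : (P : Subgroup G) ≤ C := fun g hg => Subgroup.mem_centralizer_singleton_iff.2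
    (commute_sylow P hv hxP hx g hg x hxP)
  have hPm : ((m • P : Sylow p G) : Subgroup G) ≤ C := by
    intro g hg
    rw [Sylow.coe_subgroup_smul, Subgroup.mem_pointwise_smul_iff_inv_smul_mem] at hg
    have hg' : m⁻¹ * g * m ∈ (P : Subgroup G) := by simpa [MulAut.inv_def] using hg
    have hxm : m⁻¹ * x * m ∈ (P : Subgroup G) := by
      have := (Subgroup.mem_normalizer_iff.1 (inv_mem hm) x).1 (Subgroup.mem_zpowers x)
      rw [inv_inv] at this
      exact Subgroup.zpowers_le.2 hxP this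
    have h := commute_sylow P hv hxP hx _ hg' _ hxm
    rw [Subgroup.mem_centralizer_singleton_iff]
    calc g * x = m * (m⁻¹ * g * m * (m⁻¹ * x * m)) * m⁻¹ := by group
      _ = m * (m⁻¹ * x * m * (m⁻¹ * g * m)) * m⁻¹ := by rw [h]
      _ = x * g := by group
  obtain ⟨c, hc⟩ := MulAction.exists_smul_eq C ((m • P).subtype hPm) (P.subtype hPC)
  refine ⟨c, c.2, ConjFunctor.Basic.mem_normalizer_of_forall fun a ha => ?_⟩
  have hmem : m * a * m⁻¹ ∈ ((m • P : Sylow p G) : Subgroup G) := by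
    rw [Sylow.coe_subgroup_smul, Subgroup.mem_pointwise_smul_iff_inv_smul_mem]
    simpa [MulAut.inv_def, mul_assoc] using ha
  have h1 : (⟨m * a * m⁻¹, hPm hmem⟩ : C) ∈
      (((m • P).subtype hPm : Sylow p C) : Subgroup C) := by
    rw [Sylow.coe_subtype, Subgroup.mem_subgroupOf]
    exact hmem
  have h2 : c * ⟨m * a * m⁻¹, hPm hmem⟩ * c⁻¹ ∈ ((P.subtype hPC : Sylow p C) : Subgroup C) := by
    rw [← hc, Sylow.coe_subgroup_smul, Subgroup.mem_pointwise_smul_iff_inv_smul_mem]
    simpa [MulAut.inv_def, mul_assoc] using h1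
  rw [Sylow.coe_subtype, Subgroup.mem_subgroupOf] at h2
  simpa [mul_assoc] using h2

theorem relIndex_le (χ : Cfsg.IrrCharacter G) :
    (Subgroup.centralizer ({x} : Set G)).relIndex (Subgroup.normalizer (Subgroup.zpowers x : Set G)) ≤
      Nat.card (fixExp χ v) := by
  classical
  set N := Subgroup.normalizer (Subgroup.zpowers x : Set G) with hN
  set C := Subgroup.centralizer ({x} : Set G) with hC
  haveI : NeZero (orderOf v) := ⟨(orderOf_pos v).ne'⟩
  have hex : ∀ m : N, ∃ k : fixExp χ v, ∃ c ∈ C,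
      c * (m : G) * v * (c * (m : G))⁻¹ = v ^ ((k : (ZMod (orderOf v))ˣ) : ZMod (orderOf v)).val := by
    intro m
    obtain ⟨c, hc, hcm⟩ := exists_adjust P hv hxP hx m.2
    have h1 := (Subgroup.mem_normalizer_iff.1 hcm v).1 (by rw [hv]; exact Subgroup.mem_zpowers v)
    rw [hv] at h1
    obtain ⟨k, hk⟩ := mem_powers_iff_mem_zpowers.2 h1
    replace hk : v ^ k = c * (m : G) * v * (c * (m : G))⁻¹ := hk
    have ho : orderOf (v ^ k) = orderOf v := by
      rw [hk]; exact (MulAut.conj (c * (m : G))).orderOf_eq v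
    have hcop : k.Coprime (orderOf v) := by
      rw [orderOf_pow] at ho
      have hdvd : Nat.gcd (orderOf v) k ∣ orderOf v := Nat.gcd_dvd_left _ _
      have h2 := Nat.div_mul_cancel hdvd
      rw [ho] at h2
      exact Nat.Coprime.symm (Nat.eq_of_mul_eq_mul_left (orderOf_pos v) (h2.trans (mul_one _).symm))
    set u := ZMod.unitOfCoprime k hcop
    have hu : v ^ ((u : (ZMod (orderOf v))ˣ) : ZMod (orderOf v)).val = v ^ k := by
      rw [ZMod.coe_unitOfCoprime, ZMod.val_natCast]; exact pow_mod_orderOf v k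
    refine ⟨⟨u, mem_fixExp.2 fun e => ?_⟩, c, hc, by rw [← hk]; exact hu.symm⟩
    rw [pow_mul, hu, hk, conj_pow, isClassFunction_irr χ]
  choose k c hc hk using hex
  have hnx : ∀ m : N, Commute (c m) ((m : G) * x * (m : G)⁻¹) := by
    intro m
    obtain ⟨i, hi⟩ := (Subgroup.mem_normalizer_iff.1 m.2 x).1 (Subgroup.mem_zpowers x)
    replace hi : x ^ i = (m : G) * x * (m : G)⁻¹ := hi
    rw [← hi]
    exact Commute.zpow_right (Subgroup.mem_centralizer_singleton_iff.1 (hc m)) i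
  rw [Subgroup.relIndex, Subgroup.index]
  refine Nat.card_le_card_of_injective (fun q : N ⧸ C.subgroupOf N => k q.out) fun q r hqr => ?_
  have hkk : k q.out = k r.out := hqr
  have h := hk q.out
  rw [hkk, ← hk r.out] at h
  obtain ⟨s, hs⟩ : ∃ s : ℤ, v ^ s = x := by rw [hv] at hxP; exact hxP
  have h2 : ((q.out : N) : G) * x * ((q.out : N) : G)⁻¹ = ((r.out : N) : G) * x * ((r.out : N) : G)⁻¹ := by
    have e : ∀ m : N, c m * (m : G) * x * (c m * (m : G))⁻¹ = (m : G) * x * (m : G)⁻¹ := by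
      intro m
      calc c m * (m : G) * x * (c m * (m : G))⁻¹ = c m * ((m : G) * x * (m : G)⁻¹) * (c m)⁻¹ := by group
        _ = _ := by rw [(hnx m).eq, mul_inv_cancel_right]
    rw [← e, ← e r.out, ← hs, ← conj_zpow, ← conj_zpow, h]
  rw [← QuotientGroup.out_eq' q, ← QuotientGroup.out_eq' r, QuotientGroup.eq, Subgroup.mem_subgroupOf,
    Subgroup.mem_centralizer_singleton_iff]
  simp only [Subgroup.coe_mul, Subgroup.coe_inv]
  calc ((q.out : N) : G)⁻¹ * ((r.out : N) : G) * x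
      = ((q.out : N) : G)⁻¹ * (((r.out : N) : G) * x * ((r.out : N) : G)⁻¹) * ((r.out : N) : G) := by group
    _ = ((q.out : N) : G)⁻¹ * (((q.out : N) : G) * x * ((q.out : N) : G)⁻¹) * ((r.out : N) : G) := by rw [h2]
    _ = x * (((q.out : N) : G)⁻¹ * ((r.out : N) : G)) := by group

end Cfsg.Agent.Lib.PairPSolvable
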