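import Cfsg.Agent.Lib.PairPSolvable.Eigen

/-!
# The data of the counting argument

If every element of order `p` is conjugate to a power of `x` and has a centralizer with a normal
`p`-complement, the complements can be chosen of one order `d`, and `|C(x)| = d |P|` when `P` is an
abelian Sylow `p`-subgroup containing `x`.
-/

set_option autoImplicit false
set_option linter.unusedSectionVars false
set_option linter.style.haveILetI false

namespace Cfsg.Agent.Lib.PairPSolvable

universe u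

variable {p : ℕ} [hp : Fact p.Prime] {G : Type u} [Group G] [Fintype G]

theorem eq_of_mul_pow {a b i j : ℕ} (ha : ¬ p ∣ a) (hb : ¬ p ∣ b) (h : a * p ^ i = b * p ^ j) :
    a = b ∧ p ^ i = p ^ j := by
  have ca : Nat.Coprime a (p ^ j) :=
    (((Nat.Prime.coprime_iff_not_dvd hp.out).2 ha).symm).pow_right j
  have cb : Nat.Coprime b (p ^ i) :=
    (((Nat.Prime.coprime_iff_not_dvd hp.out).2 hb).symm).pow_right i
  have h1 : a ∣ b := ca.dvd_of_dvd_mul_right (h ▸ dvd_mul_right a (p ^ i))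
  have h2 : b ∣ a := cb.dvd_of_dvd_mul_right (h.symm ▸ dvd_mul_right b (p ^ j))
  have hab := Nat.dvd_antisymm h1 h2
  subst hab
  exact ⟨rfl, Nat.eq_of_mul_eq_mul_left (Nat.pos_of_ne_zero fun h0 => ha (by simp [h0])) h⟩

theorem card_centralizer_conj_pow {x : G} (hx : orderOf x = p) (c : G) {i : ℕ} (hi : ¬ p ∣ i) :
    Nat.card (Subgroup.centralizer ({c * x ^ i * c⁻¹} : Set G)) =
      Nat.card (Subgroup.centralizer ({x} : Set G)) := by
  obtain ⟨m, hm⟩ := exists_pow_eq_self_of_coprime (x := x) (n := i)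
    (hx.symm ▸ ((Nat.Prime.coprime_iff_not_dvd hp.out).2 hi).symm)
  have hiff : ∀ g : G, g ∈ Subgroup.centralizer ({c * x ^ i * c⁻¹} : Set G) ↔
      c⁻¹ * g * c ∈ Subgroup.centralizer ({x} : Set G) := by
    intro g
    rw [Subgroup.mem_centralizer_singleton_iff, Subgroup.mem_centralizer_singleton_iff]
    constructor
    · intro h
      have h1 : Commute (c⁻¹ * g * c) (x ^ i) := by
        show c⁻¹ * g * c * x ^ i = x ^ i * (c⁻¹ * g * c)
        calc c⁻¹ * g * c * x ^ i = c⁻¹ * (g * (c * x ^ i * c⁻¹)) * c := by group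
          _ = c⁻¹ * (c * x ^ i * c⁻¹ * g) * c := by rw [h]
          _ = x ^ i * (c⁻¹ * g * c) := by group
      have h2 := h1.pow_right m
      rw [hm] at h2
      exact h2
    · intro h
      have h2 : c⁻¹ * g * c * x ^ i = x ^ i * (c⁻¹ * g * c) := (Commute.pow_right h i)
      calc g * (c * x ^ i * c⁻¹) = c * (c⁻¹ * g * c * x ^ i) * c⁻¹ := by group
        _ = c * (x ^ i * (c⁻¹ * g * c)) * c⁻¹ := by rw [h2]
        _ = c * x ^ i * c⁻¹ * g := by group
  refine Nat.card_congr
    { toFun := fun g => ⟨c⁻¹ * g * c, (hiff g).1 g.2⟩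
      invFun := fun g => ⟨c * g * c⁻¹, (hiff _).2 (by
        rw [show c⁻¹ * (c * (g : G) * c⁻¹) * c = g by group]; exact g.2)⟩
      left_inv := fun g => Subtype.ext (by show c * (c⁻¹ * (g : G) * c) * c⁻¹ = g; group)
      right_inv := fun g => Subtype.ext (by show c⁻¹ * (c * (g : G) * c⁻¹) * c = g; group) }

/-- The complements and their common order. -/
theorem exists_data (P : Sylow p G)
    (hP : ∀ a ∈ (P : Subgroup G), ∀ b ∈ (P : Subgroup G), a * b = b * a) {x : G}
    (hxP : x ∈ (P : Subgroup G)) (hx : orderOf x = p)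
    (hcon : ∀ u ∈ ordSet p G, ∃ (c : G) (i : ℕ), ¬ p ∣ i ∧ c * x ^ i * c⁻¹ = u)
    (hC : ∀ u ∈ ordSet p G, Cfsg.HasNormalPComplement p (Subgroup.centralizer ({u} : Set G))) :
    ∃ (D : G → Subgroup G) (d : ℕ), (∀ u ∈ ordSet p G, IsComp p u (D u)) ∧
      (∀ u ∈ ordSet p G, Nat.card (D u) = d) ∧ d ≠ 0 ∧
      Nat.card (Subgroup.centralizer ({x} : Set G)) = d * Nat.card (P : Subgroup G) := by
  classical
  have hxS : x ∈ ordSet p G := mem_ordSet.2 hx
  choose D₀ hD₀ using fun (u : G) (hu : u ∈ ordSet p G) => exists_isComp (hC u hu)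
  refine ⟨fun u => if h : u ∈ ordSet p G then D₀ u h else ⊥, Nat.card (D₀ x hxS),
    fun u hu => by simpa [hu] using hD₀ u hu, fun u hu => ?_, Nat.card_pos.ne', ?_⟩
  · simp only [hu, dite_true]
    obtain ⟨c, i, hi, rfl⟩ := hcon u hu
    obtain ⟨k, hk⟩ := (hD₀ _ hu).card
    obtain ⟨l, hl⟩ := (hD₀ x hxS).card
    rw [card_centralizer_conj_pow hx c hi, hl] at hk
    exact ((eq_of_mul_pow (hD₀ x hxS).not_dvd (hD₀ _ hu).not_dvd hk).1).symm
  · obtain ⟨l, hl⟩ := (hD₀ x hxS).card
    obtain ⟨a, ha⟩ := IsPGroup.iff_card.1 P.2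
    have hPC : (P : Subgroup G) ≤ Subgroup.centralizer ({x} : Set G) := fun g hg =>
      Subgroup.mem_centralizer_singleton_iff.2 (hP g hg x hxP)
    have hidx := P.not_dvd_index
    obtain ⟨r, hr⟩ := Subgroup.card_dvd_of_le hPC
    have hr' : ¬ p ∣ r := by
      intro hd
      refine hidx (hd.trans ?_)
      rw [← Subgroup.relIndex_mul_index hPC]
      refine Dvd.dvd.mul_right ?_ _
      have h1 : Nat.card (P : Subgroup G) * (P : Subgroup G).relIndex
          (Subgroup.centralizer ({x} : Set G)) = Nat.card (P : Subgroup G) * r := by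
        rw [← hr, Subgroup.relIndex, ← Nat.card_congr (Subgroup.subgroupOfEquivOfLe hPC).toEquiv,
          Subgroup.card_mul_index]
      rw [Nat.eq_of_mul_eq_mul_left Nat.card_pos h1]
    rw [hl, ha] at hr
    obtain ⟨h1, h2⟩ := eq_of_mul_pow (hD₀ x hxS).not_dvd hr' (i := l) (j := a) (by rw [hr]; ring)
    rw [hl, ha, h2]

end Cfsg.Agent.Lib.PairPSolvable
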