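import Cfsg.Agent.Lib.PairPSolvable.Main
import Cfsg.Agent.Lib.BC77.PConj
import Cfsg.Agent.Lib.Characters.Kernel

/-!
# The mean value on the elements of order `p` through eigenvalues

If all elements of order `p` are conjugate to powers of `x` then `(p - 1) * mean = (p - 1) f - p w`,
where `f` is the degree and `w` the number of eigenvalues of `x` different from `1`.
-/

set_option autoImplicit false
set_option linter.unusedSectionVars false
set_option linter.style.haveILetI false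

open Cfsg.Agent.Lib.Characters.Basic

namespace Cfsg.Agent.Lib.PairPSolvable

universe u

variable {p : ℕ} [hp : Fact p.Prime] {G : Type u} [Group G]

/-- Eigenvalues of an element, with the order of the element as exponent. -/
theorem exists_roots [Finite G] {χ : G → ℂ} (hχ : Cfsg.IsCharacter G χ) (g : G) :
    ∃ (ι : Type) (_ : Fintype ι) (z : ι → ℂ),
      (∀ i, z i ^ orderOf g = 1) ∧ ∀ e : ℕ, χ (g ^ e) = ∑ i, z i ^ e := by
  obtain ⟨ι, hι, z, hz, hsum⟩ := BC77.PConj.exists_eig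
    (isCharacter_comp (Subgroup.zpowers g).subtype hχ) ⟨g, Subgroup.mem_zpowers g⟩
  refine ⟨ι, hι, z, fun i => ?_, fun e => ?_⟩
  · rw [← Nat.card_zpowers]; exact hz i
  · rw [← hsum e]; rfl

theorem sum_pow_Icc {ζ : ℂ} (hζ : ζ ^ p = 1) :
    ∑ j ∈ Finset.Icc 1 (p - 1), ζ ^ j = if ζ = 1 then ((p - 1 : ℕ) : ℂ) else -1 := by
  have hp1 := hp.out.one_le
  have h : ∑ j ∈ Finset.range p, ζ ^ j = 1 + ∑ j ∈ Finset.Icc 1 (p - 1), ζ ^ j := by
    rw [← Finset.Ico_add_one_right_eq_Icc 1 (p - 1), Nat.sub_add_cancel hp1,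
      Finset.range_eq_Ico, ← Finset.sum_Ico_consecutive _ (Nat.zero_le 1) hp1]
    simp
  split_ifs with h1
  · simp [h1]
  · have h0 : ∑ j ∈ Finset.range p, ζ ^ j = 0 := by
      rw [geom_sum_eq h1, hζ, sub_self, zero_div]
    rw [h0] at h
    linear_combination h.symm

theorem sum_char_powers {χ : G → ℂ} {x : G} {ι : Type} [Fintype ι]
    (z : ι → ℂ) (hz : ∀ i, z i ^ p = 1)
    (hsum : ∀ e : ℕ, χ (x ^ e) = ∑ i, z i ^ e) {k : ℕ} (hk : ¬ p ∣ k) :
    ∑ j ∈ Finset.Icc 1 (p - 1), χ ((x ^ k) ^ j) =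
      ((p : ℂ) - 1) * χ 1 - (p : ℂ) * (Nat.card {i : ι // z i ≠ 1} : ℂ) := by
  classical
  have hf : χ 1 = (Fintype.card ι : ℂ) := by simpa using hsum 0
  simp only [← pow_mul, hsum]
  rw [Finset.sum_comm]
  have h1 : ∀ i, ∑ j ∈ Finset.Icc 1 (p - 1), z i ^ (k * j) =
      ((p : ℂ) - 1) - (p : ℂ) * (if z i ≠ 1 then 1 else 0) := by
    intro i
    simp only [pow_mul]
    rw [sum_pow_Icc (p := p) (by rw [← pow_mul, mul_comm, pow_mul, hz i, one_pow]),
      Nat.cast_sub hp.out.one_le]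
    have hiff : z i ^ k = 1 ↔ z i = 1 := by
      refine ⟨fun h => ?_, fun h => by rw [h, one_pow]⟩
      have h2 : orderOf (z i) ∣ Nat.gcd k p :=
        Nat.dvd_gcd (orderOf_dvd_of_pow_eq_one h) (orderOf_dvd_of_pow_eq_one (hz i))
      rw [((Nat.Prime.coprime_iff_not_dvd hp.out).2 hk).symm.gcd_eq_one, Nat.dvd_one,
        orderOf_eq_one_iff] at h2
      exact h2
    by_cases h : z i = 1
    · rw [if_pos (hiff.2 h), if_neg (fun h' => h' h)]; simp
    · rw [if_neg (fun h' => h (hiff.1 h')), if_pos h]; ring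
  rw [Finset.sum_congr rfl fun i _ => h1 i, Finset.sum_sub_distrib, ← Finset.mul_sum,
    Finset.sum_boole, Finset.sum_const, nsmul_eq_mul, hf, Finset.card_univ,
    Nat.card_eq_fintype_card, Fintype.card_subtype]
  ring

/-- The mean value through the eigenvalues of `x`. -/
theorem mean_formula [Fintype G] (χ : Cfsg.IrrCharacter G) {x : G}
    (hcon : ∀ u ∈ ordSet p G, ∃ (c : G) (i : ℕ), ¬ p ∣ i ∧ c * x ^ i * c⁻¹ = u)
    (hS : (ordSet p G).Nonempty) {ι : Type} [Fintype ι] (z : ι → ℂ) (hz : ∀ i, z i ^ p = 1)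
    (hsum : ∀ e : ℕ, (χ : G → ℂ) (x ^ e) = ∑ i, z i ^ e) :
    ((p : ℝ) - 1) * mean p χ =
      ((p : ℝ) - 1) * ((χ : G → ℂ) 1).re - (p : ℝ) * (Nat.card {i : ι // z i ≠ 1} : ℝ) := by
  classical
  set S := ordSet p G with hSdef
  set R : ℂ := ((p : ℂ) - 1) * (χ : G → ℂ) 1 - (p : ℂ) * (Nat.card {i : ι // z i ≠ 1} : ℂ) with hR
  have h1 : ∀ u ∈ S, ∑ j ∈ Finset.Icc 1 (p - 1), (χ : G → ℂ) (u ^ j) = R := by
    intro u hu
    obtain ⟨c, i, hi, rfl⟩ := hcon u hu
    rw [hR, ← sum_char_powers (χ := (χ : G → ℂ)) z hz hsum hi]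
    refine Finset.sum_congr rfl fun j _ => ?_
    rw [conj_pow, isClassFunction_irr χ]
  have h2 : ∀ j ∈ Finset.Icc 1 (p - 1),
      ∑ u ∈ S, (χ : G → ℂ) (u ^ j) = sigma p χ := by
    intro j hj
    obtain ⟨hj1, hj2⟩ := Finset.mem_Icc.1 hj
    have hjp : j.Coprime p := ((Nat.Prime.coprime_iff_not_dvd hp.out).2 fun hd => by
      have := Nat.le_of_dvd hj1 hd; have := hp.out.two_le; omega).symm
    have hmem : ∀ u ∈ S, u ^ j ∈ S := fun u hu => by
      rw [mem_ordSet, orderOf_pow, mem_ordSet.1 hu, hjp.symm.gcd_eq_one, Nat.div_one]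
    have hinj : ∀ u ∈ S, ∀ v ∈ S, u ^ j = v ^ j → u = v := by
      intro u hu v hv h
      obtain ⟨m, hm⟩ := exists_pow_eq_self_of_coprime (x := u) (n := j)
        (by rw [mem_ordSet.1 hu]; exact hjp)
      obtain ⟨m', hm'⟩ := exists_pow_eq_self_of_coprime (x := v) (n := j)
        (by rw [mem_ordSet.1 hv]; exact hjp)
      have e : ∀ w : G, w ∈ S → ∀ n : ℕ, (w ^ j) ^ n = w → ∀ n' : ℕ, j * n ≡ j * n' [MOD p] →
          (w ^ j) ^ n' = w := by
        intro w hw n hn n' hnn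
        rw [← pow_mul, ← pow_eq_pow_iff_modEq.2 (mem_ordSet.1 hw ▸ hnn), pow_mul, hn]
      have hmm : j * m ≡ j * m' [MOD p] := by
        have a1 : j * m ≡ 1 [MOD p] := by
          rw [← mem_ordSet.1 hu, ← pow_eq_pow_iff_modEq, pow_mul, hm, pow_one]
        have a2 : j * m' ≡ 1 [MOD p] := by
          rw [← mem_ordSet.1 hv, ← pow_eq_pow_iff_modEq, pow_mul, hm', pow_one]
        exact a1.trans a2.symm
      rw [← e u hu m hm m' hmm, h, hm']
    rw [sigma]
    exact Finset.sum_nbij (fun u => u ^ j) hmem (fun u hu v hv => hinj u hu v hv)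
      (Finset.surjOn_of_injOn_of_card_le _ (fun u hu => hmem u hu)
        (fun u hu v hv => hinj u hu v hv) le_rfl) (fun _ _ => rfl)
  have h3 : ((p - 1 : ℕ) : ℂ) * sigma p χ = (S.card : ℂ) * R := by
    have := Finset.sum_comm (s := S) (t := Finset.Icc 1 (p - 1))
      (f := fun u j => (χ : G → ℂ) (u ^ j))
    rw [Finset.sum_congr rfl h1, Finset.sum_congr rfl h2, Finset.sum_const, Finset.sum_const,
      nsmul_eq_mul, nsmul_eq_mul, Nat.card_Icc, show p - 1 + 1 - 1 = p - 1 by omega] at this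
    exact this.symm
  rw [Nat.cast_sub hp.out.one_le, Nat.cast_one, mean_eq hS χ, hR] at h3
  have hc : ((S.card : ℕ) : ℂ) ≠ 0 := Nat.cast_ne_zero.2 hS.card_pos.ne'
  have h4 : ((p : ℂ) - 1) * (mean p χ : ℂ) =
      ((p : ℂ) - 1) * (χ : G → ℂ) 1 - (p : ℂ) * (Nat.card {i : ι // z i ≠ 1} : ℂ) :=
    mul_left_cancel₀ hc (by rw [← h3]; ring)
  have := congrArg Complex.re h4
  simpa using this

/-- A nonprincipal character of a simple group is faithful on `x`. -/
theorem card_moved_pos [Finite G] [IsSimpleGroup G] {χ : Cfsg.IrrCharacter G}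
    (hχ : χ ≠ oneChar G) {x : G} (hx : x ≠ 1) {ι : Type} [Fintype ι] (z : ι → ℂ)
    (hsum : ∀ e : ℕ, (χ : G → ℂ) (x ^ e) = ∑ i, z i ^ e) :
    0 < Nat.card {i : ι // z i ≠ 1} := by
  classical
  rw [Nat.card_eq_fintype_card, Fintype.card_pos_iff]
  by_contra h
  have hz : ∀ i, z i = 1 := fun i => by_contra fun hi => h ⟨⟨i, hi⟩⟩
  have hxf : (χ : G → ℂ) x = (χ : G → ℂ) 1 := by
    rw [← pow_one x, hsum 1, show (χ : G → ℂ) 1 = ∑ i, z i ^ 0 by rw [← hsum 0, pow_zero]]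
    simp [hz]
  by_cases hall : ∀ g, (χ : G → ℂ) g = (χ : G → ℂ) 1
  · refine hχ (Subtype.ext (funext fun g => ?_))
    letI := Fintype.ofFinite G
    have h1 : Cfsg.classInner (χ : G → ℂ) (oneChar G : G → ℂ) = 0 :=
      classInner_irr_of_ne hχ
    exfalso
    rw [Cfsg.classInner] at h1
    simp only [hall, oneChar_apply, map_one, mul_one, Finset.sum_const, nsmul_eq_mul,
      Finset.card_univ, mul_eq_zero, inv_eq_zero, Nat.cast_eq_zero, Fintype.card_ne_zero,
      Nat.card_pos.ne', false_or] at h1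
    exact apply_one_ne_zero χ h1
  · push Not at hall
    obtain ⟨g, hg⟩ := hall
    have := Characters.Kernel.charKer_eq_bot_of_simple (isCharacter_irr χ) hg
    exact hx ((Subgroup.eq_bot_iff_forall _).1 this x hxf)

end Cfsg.Agent.Lib.PairPSolvable
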