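import Cfsg.Agent.Lib.PSolvable.HallHigman
import Cfsg.Agent.Lib.BrauerMap.PrincipalSection

/-!
# Two elements of order `p` generating a `p`-solvable group with abelian Sylow `p`-subgroups

Modulo the largest normal subgroup of order prime to `p` they generate an elementary abelian
`p`-group.  In particular `x * y ^ j` has order prime to `p` for at most one exponent `j` modulo `p`,
and the `p`-part of `x * y` has order at most `p`.
-/

set_option autoImplicit false
set_option linter.unusedSectionVars false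
set_option linter.style.haveILetI false

namespace Cfsg.Agent.Lib.PairPSolvable

universe u

variable {p : ℕ} [hp : Fact p.Prime]

/-- A `p`-solvable group with abelian Sylow `p`-subgroups generated by two elements with trivial
`p`-th power is elementary abelian modulo a normal subgroup of order prime to `p`. -/
theorem exists_kernel {H : Type u} [Group H] [Finite H]
    (hab : ∀ Q : Subgroup H, IsPGroup p Q → ∀ a ∈ Q, ∀ b ∈ Q, a * b = b * a)
    (h : Cfsg.IsPSolvable p H) {x y : H} (hgen : Subgroup.closure ({x, y} : Set H) = ⊤)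
    (hx : x ^ p = 1) (hy : y ^ p = 1) :
    ∃ N : Subgroup H, N.Normal ∧ ¬ p ∣ Nat.card N ∧
      (∀ a b : H, a * b * a⁻¹ * b⁻¹ ∈ N) ∧ ∀ a : H, a ^ p ∈ N := by
  set N := Cfsg.pPrimeCore p H with hN
  have hNp : ¬ p ∣ Nat.card N := fun hd => by
    have := Nat.Coprime.coprime_dvd_left hd (PSolvable.card_pPrimeCore_coprime (p := p) (G := H))
    exact hp.out.ne_one ((Nat.coprime_self p).1 this)
  haveI : N.Normal := inferInstance
  set π := QuotientGroup.mk' N with hπ
  have hπs : Function.Surjective π := QuotientGroup.mk'_surjective N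
  set O := Cfsg.pCore p (H ⧸ N) with hO
  have hC : Subgroup.centralizer (O : Set (H ⧸ N)) ≤ O :=
    PSolvable.centralizer_pCore_le (PSolvable.isPSolvable_quotient h N)
      (PSolvable.pPrimeCore_quotient_eq_bot N hN)
  -- every Sylow subgroup of the quotient is `O`
  have hsyl : ∀ Q : Sylow p (H ⧸ N), (Q : Subgroup (H ⧸ N)) ≤ O := by
    intro Q
    obtain ⟨Q', rfl⟩ := Sylow.mapSurjective_surjective hπs p Q
    refine le_trans (fun a ha => ?_) hC
    refine Subgroup.mem_centralizer_iff.2 fun o ho => ?_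
    have ho' : o ∈ ((Q'.mapSurjective hπs : Sylow p (H ⧸ N)) : Subgroup (H ⧸ N)) := by
      have hle : O ≤ ((Q'.mapSurjective hπs : Sylow p (H ⧸ N)) : Subgroup (H ⧸ N)) := by
        exact IsPGroup.le_sylow_of_normal (PSolvable.isPGroup_pCore (p := p)) _
      exact hle ho
    rw [Sylow.coe_mapSurjective] at ha ho'
    obtain ⟨a', ha', rfl⟩ := ha
    obtain ⟨o', ho'', rfl⟩ := ho'
    rw [← map_mul, ← map_mul, hab (Q' : Subgroup H) Q'.2 o' ho'' a' ha']
  have hmem : ∀ a : H ⧸ N, a ^ p = 1 → a ∈ O := by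
    intro a ha
    have hP : IsPGroup p (Subgroup.zpowers a) := by
      rintro ⟨_, k, rfl⟩
      exact ⟨1, Subtype.ext (by
        simp only [pow_one, SubmonoidClass.coe_pow, OneMemClass.coe_one]
        rw [← zpow_natCast, ← zpow_mul, mul_comm, zpow_mul, zpow_natCast, ha, one_zpow])⟩
    obtain ⟨Q, hQ⟩ := hP.exists_le_sylow
    exact hsyl Q (hQ (Subgroup.mem_zpowers a))
  obtain ⟨Q₀⟩ : Nonempty (Sylow p H) := inferInstance
  have hxO : π x ∈ O := hmem _ (by rw [← map_pow, hx, map_one])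
  have hyO : π y ∈ O := hmem _ (by rw [← map_pow, hy, map_one])
  have htop : O = ⊤ := by
    rw [eq_top_iff, ← Subgroup.map_top_of_surjective π hπs, ← hgen, MonoidHom.map_closure,
      Subgroup.closure_le]
    rintro _ ⟨a, rfl | rfl, rfl⟩
    · exact hxO
    · exact hyO
  obtain ⟨Q⟩ : Nonempty (Sylow p (H ⧸ N)) := inferInstance
  obtain ⟨Q', rfl⟩ := Sylow.mapSurjective_surjective hπs p Q
  have hall : ∀ a : H ⧸ N, a ∈ (Q' : Subgroup H).map π := by
    intro a
    have := IsPGroup.le_sylow_of_normal (N := O) (PSolvable.isPGroup_pCore (p := p)) (Q'.mapSurjective hπs)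
    rw [htop, Sylow.coe_mapSurjective] at this
    exact this (Subgroup.mem_top a)
  have hcomm : ∀ a b : H ⧸ N, a * b = b * a := by
    intro a b
    obtain ⟨a', ha, rfl⟩ := hall a
    obtain ⟨b', hb, rfl⟩ := hall b
    rw [← map_mul, ← map_mul, hab (Q' : Subgroup H) Q'.2 a' ha b' hb]
  have hexp : ∀ a : H, π a ^ p = 1 := by
    intro a
    have ha : a ∈ Subgroup.closure ({x, y} : Set H) := by rw [hgen]; trivial
    induction ha using Subgroup.closure_induction with
    | mem z hz =>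
      rcases hz with rfl | rfl
      · rw [← map_pow, hx, map_one]
      · rw [← map_pow, hy, map_one]
    | one => simp
    | mul a b _ _ iha ihb => rw [map_mul, Commute.mul_pow (hcomm (π a) (π b)), iha, ihb, one_mul]
    | inv a _ iha => rw [map_inv, inv_pow, iha, inv_one]
  refine ⟨N, inferInstance, hNp, fun a b => (QuotientGroup.eq_one_iff _).1 ?_,
    fun a => (QuotientGroup.eq_one_iff _).1 ?_⟩
  · change π (a * b * a⁻¹ * b⁻¹) = 1
    rw [map_mul, map_mul, map_mul, hcomm (π a) (π b), map_inv, map_inv]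
    group
  · change π (a ^ p) = 1
    rw [map_pow]; exact hexp a

variable {G : Type u} [Group G] [Finite G]

/-- A group with abelian Sylow `p`-subgroups: `p`-subgroups are commutative. -/
theorem commute_of_isPGroup (P : Sylow p G)
    (hP : ∀ a ∈ (P : Subgroup G), ∀ b ∈ (P : Subgroup G), a * b = b * a)
    {Q : Subgroup G} (hQ : IsPGroup p Q) : ∀ a ∈ Q, ∀ b ∈ Q, a * b = b * a := by
  obtain ⟨T, hT⟩ := hQ.exists_le_sylow
  obtain ⟨g, rfl⟩ := MulAction.exists_smul_eq G P T
  intro a ha b hb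
  have key : ∀ c ∈ Q, g⁻¹ * c * g ∈ (P : Subgroup G) := by
    intro c hc
    have := hT hc
    rw [Sylow.coe_subgroup_smul, Subgroup.mem_pointwise_smul_iff_inv_smul_mem] at this
    simpa [MulAut.inv_def] using this
  have h := hP _ (key a ha) _ (key b hb)
  have e1 : a * b = g * (g⁻¹ * a * g * (g⁻¹ * b * g)) * g⁻¹ := by group
  have e2 : b * a = g * (g⁻¹ * b * g * (g⁻¹ * a * g)) * g⁻¹ := by group
  rw [e1, h, e2]

/-- The hypothesis on pairs of elements of order `p`. -/
def PairSolvable (p : ℕ) (G : Type u) [Group G] : Prop :=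
  ∀ x y : G, orderOf x = p → orderOf y = p →
    Cfsg.IsPSolvable p ↥(Subgroup.closure ({x, y} : Set G))

variable (P : Sylow p G) (hP : ∀ a ∈ (P : Subgroup G), ∀ b ∈ (P : Subgroup G), a * b = b * a)
  (hpair : PairSolvable p G)

include P hP hpair

theorem exists_kernel_pair {x y : G} (hx : orderOf x = p) (hy : orderOf y = p) :
    ∃ N : Subgroup G, ¬ p ∣ Nat.card N ∧ N ≤ Subgroup.closure ({x, y} : Set G) ∧
      ∀ a ∈ Subgroup.closure ({x, y} : Set G), ∀ b ∈ Subgroup.closure ({x, y} : Set G),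
        a * b * a⁻¹ * b⁻¹ ∈ N ∧ a ^ p ∈ N ∧ (b ∈ N → a * b * a⁻¹ ∈ N) := by
  set H := Subgroup.closure ({x, y} : Set G) with hH
  have hxH : x ∈ H := Subgroup.subset_closure (Or.inl rfl)
  have hyH : y ∈ H := Subgroup.subset_closure (Or.inr rfl)
  obtain ⟨N, hN, hNp, hcomm, hpow⟩ := exists_kernel (H := H) (fun Q hQ a ha b hb =>
    Subtype.ext (commute_of_isPGroup P hP (hQ.map H.subtype) _ ⟨a, ha, rfl⟩ _ ⟨b, hb, rfl⟩))
    (hpair x y hx hy) (x := ⟨x, hxH⟩) (y := ⟨y, hyH⟩) (by
      rw [eq_top_iff, ← (Subgroup.map_le_map_iff_of_injective H.subtype_injective),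
        MonoidHom.map_closure, ← MonoidHom.range_eq_map, Subgroup.range_subtype]
      refine hH.le.trans (Subgroup.closure_mono ?_)
      rintro z (rfl | rfl)
      · exact ⟨⟨z, hxH⟩, Or.inl rfl, rfl⟩
      · exact ⟨⟨z, hyH⟩, Or.inr rfl, rfl⟩)
    (Subtype.ext (by rw [SubmonoidClass.coe_pow, ← hx]; exact pow_orderOf_eq_one x))
    (Subtype.ext (by rw [SubmonoidClass.coe_pow, ← hy]; exact pow_orderOf_eq_one y))
  refine ⟨N.map H.subtype, ?_, Subgroup.map_subtype_le N, fun a ha b hb =>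
    ⟨⟨_, hcomm ⟨a, ha⟩ ⟨b, hb⟩, rfl⟩, ⟨_, hpow ⟨a, ha⟩, rfl⟩, ?_⟩⟩
  · rw [Subgroup.card_map_of_injective H.subtype_injective]; exact hNp
  · rintro ⟨c, hc, hcb⟩
    exact ⟨⟨a, ha⟩ * c * ⟨a, ha⟩⁻¹, hN.conj_mem c hc ⟨a, ha⟩, by rw [← hcb]; rfl⟩

/-- At most one of the products `x * y ^ j` has order prime to `p`. -/
theorem modEq_of_regular {x y : G} (hx : orderOf x = p) (hy : orderOf y = p) {i j : ℕ}
    (hi : ¬ p ∣ orderOf (x * y ^ i)) (hj : ¬ p ∣ orderOf (x * y ^ j)) : i ≡ j [MOD p] := by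
  obtain ⟨N, hNp, -, hN⟩ := exists_kernel_pair P hP hpair hx hy
  set H := Subgroup.closure ({x, y} : Set G) with hH
  have hxH : x ∈ H := Subgroup.subset_closure (Or.inl rfl)
  have hyH : y ∈ H := Subgroup.subset_closure (Or.inr rfl)
  have hreg : ∀ k : ℕ, ¬ p ∣ orderOf (x * y ^ k) → x * y ^ k ∈ N := by
    intro k hk
    have hmem : x * y ^ k ∈ H := mul_mem hxH (pow_mem hyH k)
    have h1 : (x * y ^ k) ^ p ∈ N := (hN _ hmem _ hmem).2.1
    obtain ⟨m, hm⟩ := exists_pow_eq_self_of_coprime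
      ((Nat.Prime.coprime_iff_not_dvd hp.out).2 hk)
    rw [← hm]
    exact pow_mem h1 m
  have key : ∀ a b : ℕ, ¬ p ∣ orderOf (x * y ^ a) → ¬ p ∣ orderOf (x * y ^ (a + b)) → p ∣ b := by
    intro a b ha hb
    by_contra hd
    have h1 : y ^ b ∈ N := by
      have := mul_mem (inv_mem (hreg a ha)) (hreg _ hb)
      rw [pow_add] at this
      simpa [mul_assoc] using this
    obtain ⟨m, hm⟩ := exists_pow_eq_self_of_coprime (n := b) (x := y)
      (hy.symm ▸ ((Nat.Prime.coprime_iff_not_dvd hp.out).2 hd).symm)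
    have hyN : y ∈ N := by rw [← hm]; exact pow_mem h1 m
    refine hNp ?_
    rw [← hy, ← Subgroup.orderOf_mk y hyN]
    exact orderOf_dvd_natCard _
  rcases le_total i j with hij | hji
  · obtain ⟨b, rfl⟩ := Nat.exists_eq_add_of_le hij
    exact (Nat.modEq_iff_dvd' hij).2 (by simpa using key i b hi hj)
  · obtain ⟨b, rfl⟩ := Nat.exists_eq_add_of_le hji
    exact ((Nat.modEq_iff_dvd' hji).2 (by simpa using key j b hj hi)).symm

/-- The `p`-part of a product of two elements of order `p` has order `p` or `1`. -/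
theorem orderOf_pPart {x y : G} (hx : orderOf x = p) (hy : orderOf y = p)
    (hd : p ∣ orderOf (x * y)) {u : G} (hu : Cfsg.IsPPart p (x * y) u) : orderOf u = p := by
  obtain ⟨N, hNp, -, hN⟩ := exists_kernel_pair P hP hpair hx hy
  set H := Subgroup.closure ({x, y} : Set G) with hH
  have hxy : x * y ∈ H :=
    mul_mem (Subgroup.subset_closure (Or.inl rfl)) (Subgroup.subset_closure (Or.inr rfl))
  have huH : u ∈ H :=
    (Subgroup.zpowers_le.2 hxy) (BrauerMap.PrincipalSection.isPPart_mem_zpowers hp.out hu)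
  have h1 : u ^ p ∈ N := (hN u huH u huH).2.1
  have hu1 : u ≠ 1 := Blocks.isPPart_ne_one hu hd
  obtain ⟨-, -, -, ⟨k, hk⟩, -⟩ := hu
  have h2 : orderOf (u ^ p) ∣ p ^ k := hk ▸ orderOf_pow_dvd p
  have h3 : orderOf (u ^ p) ∣ Nat.card N := by
    rw [← Subgroup.orderOf_mk (u ^ p) h1]; exact orderOf_dvd_natCard _
  have h4 : orderOf (u ^ p) = 1 :=
    Nat.eq_one_of_dvd_coprimes
      (((Nat.Prime.coprime_iff_not_dvd hp.out).2 hNp).pow_left k) h2 h3
  exact orderOf_eq_prime (orderOf_eq_one_iff.1 h4) hu1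

end Cfsg.Agent.Lib.PairPSolvable
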