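import Cfsg.Agent.Lib.PairPSolvable.Sums
import Cfsg.Agent.Lib.Blocks.LocalRing

/-!
# A nonprincipal character with large mean value on the elements of order `p`

When all centralizers of elements of order `p` have normal `p`-complements of the same order `d` and
all pairs of elements of order `p` generate `p`-solvable groups (Sylow `p`-subgroups abelian), some
nonprincipal character has mean value on `S` above `((c Q - 1) / (Q - 1)) * degree`, where
`c = (p - 2) / (p - 1)` and `Q = |G| / (d |S|)`, while the squares of the weights of the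
nonprincipal characters sum to `Q - 1`.
-/

set_option autoImplicit false
set_option linter.unusedSectionVars false
set_option linter.style.haveILetI false

open Cfsg.Agent.Lib.Characters.Basic

namespace Cfsg.Agent.Lib.PairPSolvable

universe u

/-- Real families with the given moments. -/
theorem exists_weight {ι : Type*} [Fintype ι] [DecidableEq ι] (i₀ : ι) (w f : ι → ℝ) {Q c : ℝ}
    (hf : ∀ i, 0 < f i) (hw0 : w i₀ = 1) (hf0 : f i₀ = 1) (hdeg : ∑ i, f i * w i = 0)
    (hsq : ∑ i, w i ^ 2 = Q) (hcube : c * Q ≤ ∑ i, w i ^ 3 / f i) (hQ : 1 < Q) (hc : 1 ≤ c * Q) :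
    ∃ i, i ≠ i₀ ∧ (c * Q - 1) * f i < (Q - 1) * w i := by
  classical
  by_contra hne
  push Not at hne
  set R := (c * Q - 1) / (Q - 1) with hR
  have hQ1 : 0 < Q - 1 := by linarith
  have hR0 : 0 ≤ R := div_nonneg (by linarith) hQ1.le
  have hle : ∀ i, i ≠ i₀ → w i ≤ R * f i := by
    intro i hi
    rw [hR, div_mul_eq_mul_div, le_div_iff₀ hQ1]
    linarith [hne i hi]
  set I := Finset.univ.erase i₀ with hI
  have h1 : ∀ g : ι → ℝ, g i₀ + ∑ i ∈ I, g i = ∑ i, g i := fun g =>
    Finset.add_sum_erase _ g (Finset.mem_univ i₀)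
  have e1 := h1 (fun i => f i * w i)
  have e2 := h1 (fun i => w i ^ 2)
  have e3 := h1 (fun i => w i ^ 3 / f i)
  simp only [hw0, hf0, one_pow, div_one, mul_one] at e1 e2 e3
  have hterm : ∀ i ∈ I, 0 ≤ R * w i ^ 2 - w i ^ 3 / f i := by
    intro i hi
    have := hle i (Finset.ne_of_mem_erase hi)
    rw [sub_nonneg, div_le_iff₀ (hf i)]
    have h2 : 0 ≤ w i ^ 2 := sq_nonneg _
    nlinarith [mul_le_mul_of_nonneg_left this h2]
  have hsum : ∑ i ∈ I, (R * w i ^ 2 - w i ^ 3 / f i) ≤ 0 := by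
    rw [Finset.sum_sub_distrib, ← Finset.mul_sum]
    have hRQ : R * (Q - 1) = c * Q - 1 := div_mul_cancel₀ _ hQ1.ne'
    have h4 : ∑ i ∈ I, w i ^ 2 = Q - 1 := by linarith
    rw [h4, hRQ]
    linarith
  have hz := (Finset.sum_eq_zero_iff_of_nonneg hterm).1 (le_antisymm hsum (Finset.sum_nonneg hterm))
  have hnn : 0 ≤ ∑ i ∈ I, f i * w i := by
    refine Finset.sum_nonneg fun i hi => ?_
    by_cases h0 : w i = 0
    · simp [h0]
    · have h := hz i hi
      rw [sub_eq_zero, eq_div_iff (hf i).ne'] at h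
      have h' : w i = R * f i := by
        refine mul_left_cancel₀ (pow_ne_zero 2 h0) ?_
        linarith
      rw [h']
      exact mul_nonneg (hf i).le (mul_nonneg hR0 (hf i).le)
  linarith

variable {p : ℕ} [hp : Fact p.Prime] {G : Type u} [Group G] [Fintype G]

variable (P : Sylow p G) (hP : ∀ a ∈ (P : Subgroup G), ∀ b ∈ (P : Subgroup G), a * b = b * a)
  (hpair : PairSolvable p G)

include P hP hpair

open scoped Classical in
/-- At most one in `p - 1` pairs of elements of order `p` has product of order prime to `p`. -/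
theorem card_pairs_le :
    (p - 2) * (ordSet p G).card ^ 2 ≤ (p - 1) *
      ((ordSet p G ×ˢ ordSet p G).filter fun a => a.1 * a.2 ∈ secSet p G).card := by
  set S := ordSet p G with hS
  have hp2 : 2 ≤ p := hp.out.two_le
  have key : ∀ x ∈ S, (p - 2) * S.card ≤ (p - 1) * (S.filter fun y => x * y ∈ secSet p G).card := by
    intro x hx
    have hxo := mem_ordSet.1 hx
    set A := S.filter fun y => x * y ∉ secSet p G with hA
    have hAreg : ∀ y ∈ A, ¬ p ∣ orderOf (x * y) := by
      intro y hy hd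
      obtain ⟨hyS, hyT⟩ := Finset.mem_filter.1 hy
      obtain ⟨u, hu⟩ := Blocks.exists_isPPart hp.out (x * y)
      exact hyT (mem_secSet.2
        ⟨u, orderOf_pPart P hP hpair hxo (mem_ordSet.1 hyS) hd hu, hu⟩)
    set J := Finset.Icc 1 (p - 1) with hJ
    have hJlt : ∀ j ∈ J, j < p ∧ ¬ p ∣ j := fun j hj => by
      obtain ⟨h1, h2⟩ := Finset.mem_Icc.1 hj
      exact ⟨by omega, fun hd => by have := Nat.le_of_dvd h1 hd; omega⟩
    have hmono : ∀ j ∈ J, A.card ≤ (S.filter fun y => ¬ p ∣ orderOf (x * y ^ j)).card := by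
      intro j hj
      obtain ⟨-, hjd⟩ := hJlt j hj
      set k := ((j : ZMod p)⁻¹).val with hk
      have hjk : k * j ≡ 1 [MOD p] := by
        rw [← ZMod.natCast_eq_natCast_iff, Nat.cast_mul, hk, ZMod.natCast_zmod_val, Nat.cast_one,
          inv_mul_cancel₀ (by rwa [Ne, ZMod.natCast_eq_zero_iff])]
      have hinv : ∀ y ∈ A, (y ^ k) ^ j = y := by
        intro y hy
        rw [← pow_mul]
        conv_rhs => rw [← pow_one y]
        rw [pow_eq_pow_iff_modEq, mem_ordSet.1 (Finset.mem_filter.1 hy).1]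
        exact hjk
      refine Finset.card_le_card_of_injOn (fun y => y ^ k) (fun y hy => ?_) (fun y hy y' hy' h => ?_)
      · have hyS := mem_ordSet.1 (Finset.mem_filter.1 hy).1
        refine Finset.mem_filter.2 ⟨mem_ordSet.2 (orderOf_eq_prime ?_ fun h1 => ?_), ?_⟩
        · rw [← pow_mul, mul_comm, pow_mul, ← hyS, pow_orderOf_eq_one, one_pow]
        · have := hinv y hy
          dsimp only at h1
          rw [h1, one_pow] at this
          rw [← this, orderOf_one] at hyS
          omega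
        · rw [hinv y hy]; exact hAreg y hy
      · rw [← hinv y hy, ← hinv y' hy']; exact congrArg (· ^ j) h
    have hA1 : (p - 1) * A.card ≤ S.card := by
      calc (p - 1) * A.card = ∑ _j ∈ J, A.card := by simp [hJ]
        _ ≤ ∑ j ∈ J, (S.filter fun y => ¬ p ∣ orderOf (x * y ^ j)).card := Finset.sum_le_sum hmono
        _ = ∑ y ∈ S, (J.filter fun j => ¬ p ∣ orderOf (x * y ^ j)).card := by
          simp only [Finset.card_filter]
          exact Finset.sum_comm
        _ ≤ ∑ _y ∈ S, 1 := by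
          refine Finset.sum_le_sum fun y hy => Finset.card_le_one.2 fun i hi j hj => ?_
          obtain ⟨hiJ, hi⟩ := Finset.mem_filter.1 hi
          obtain ⟨hjJ, hj⟩ := Finset.mem_filter.1 hj
          exact (modEq_of_regular P hP hpair hxo (mem_ordSet.1 hy) hi hj).eq_of_lt_of_lt
            (hJlt i hiJ).1 (hJlt j hjJ).1
        _ = S.card := by simp
    have hsplit : (S.filter fun y => x * y ∈ secSet p G).card + A.card = S.card :=
      Finset.card_filter_add_card_filter_not (fun y => x * y ∈ secSet p G)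
    have h1 : (p - 2) + 1 = p - 1 := by omega
    rw [← h1] at hA1 ⊢
    nlinarith
  calc (p - 2) * S.card ^ 2 = ∑ _x ∈ S, (p - 2) * S.card := by
        rw [Finset.sum_const, smul_eq_mul]; ring
    _ ≤ ∑ x ∈ S, (p - 1) * (S.filter fun y => x * y ∈ secSet p G).card := Finset.sum_le_sum key
    _ = _ := by
        rw [← Finset.mul_sum]
        congr 1
        simp only [Finset.card_filter]
        exact (Finset.sum_product' _ _ _).symm

omit P hP hpair in
/-- The weight of the principal character. -/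
theorem weight_oneChar (M : Ideal Cfsg.AlgInt) (hM : Cfsg.IsPModular p M) (hS : (ordSet p G).Nonempty) :
    weight M p (oneChar G) = 1 := by
  classical
  haveI := hM.2.1
  rw [weight, if_pos (Blocks.oneChar_mem_principalBlock (M := M) (G := G)), mean, sigma]
  simp only [oneChar_apply]
  rw [Finset.sum_const, nsmul_eq_mul, mul_one, Complex.natCast_re, div_self]
  exact Nat.cast_ne_zero.2 hS.card_pos.ne'

/-- The conclusion of the counting argument. -/
theorem exists_large (M : Ideal Cfsg.AlgInt) (hM : Cfsg.IsPModular p M) (D : G → Subgroup G)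
    (d : ℕ) (hD : ∀ u ∈ ordSet p G, IsComp p u (D u))
    (hd : ∀ u ∈ ordSet p G, Nat.card (D u) = d) (hd0 : d ≠ 0) (hS : (ordSet p G).Nonempty)
    [Fintype (Cfsg.IrrCharacter G)] {Q : ℝ}
    (hQ : Q * ((d : ℝ) * ((ordSet p G).card : ℝ)) = (Nat.card G : ℝ)) (hQ1 : 1 < Q)
    (hQc : 1 ≤ ((p : ℝ) - 2) / ((p : ℝ) - 1) * Q) :
    (∑ χ : Cfsg.IrrCharacter G, weight M p χ ^ 2 = Q) ∧
    ∃ χ : Cfsg.IrrCharacter G, χ ≠ oneChar G ∧ χ ∈ Cfsg.principalBlock M G ∧
      (((p : ℝ) - 2) / ((p : ℝ) - 1) * Q - 1) * ((χ : G → ℂ) 1).re < (Q - 1) * mean p χ := by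
  classical
  set c := ((p : ℝ) - 2) / ((p : ℝ) - 1) with hc
  have hp2 : (2 : ℝ) ≤ p := by exact_mod_cast hp.out.two_le
  have hdS : (d : ℝ) * ((ordSet p G).card : ℝ) ≠ 0 :=
    mul_ne_zero (Nat.cast_ne_zero.2 hd0) (Nat.cast_ne_zero.2 hS.card_pos.ne')
  have hsq : ∑ χ : Cfsg.IrrCharacter G, weight M p χ ^ 2 = Q :=
    mul_right_cancel₀ hdS ((sum_weight_sq hM D d hD hd hS).trans hQ.symm)
  refine ⟨hsq, ?_⟩
  have hre : ∀ χ : Cfsg.IrrCharacter G, (χ : G → ℂ) 1 = ((((χ : G → ℂ) 1).re : ℝ) : ℂ) ∧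
      0 < ((χ : G → ℂ) 1).re := fun χ => by
    obtain ⟨n, hn, hχ⟩ := exists_degree_pos χ
    rw [hχ]
    exact ⟨by simp, by simpa using hn⟩
  have hdeg : ∑ χ : Cfsg.IrrCharacter G, ((χ : G → ℂ) 1).re * weight M p χ = 0 := by
    have h := sum_degree_weight hM D d hD hd hS hd0
    rw [Finset.sum_congr rfl fun χ _ => by rw [(hre χ).1, ← Complex.ofReal_mul],
      ← Complex.ofReal_sum] at h
    exact_mod_cast h
  have hcube : c * Q ≤ ∑ χ : Cfsg.IrrCharacter G, weight M p χ ^ 3 / ((χ : G → ℂ) 1).re := by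
    have h := sum_weight_cube hM D d hD hd hS
    rw [Finset.sum_congr rfl fun χ _ => by
      rw [(hre χ).1, ← Complex.ofReal_pow, ← Complex.ofReal_div], ← Complex.ofReal_sum] at h
    set N := ((ordSet p G ×ˢ ordSet p G).filter fun a => a.1 * a.2 ∈ secSet p G).card with hN
    set T3 := ∑ χ : Cfsg.IrrCharacter G, weight M p χ ^ 3 / ((χ : G → ℂ) 1).re with hT3
    set n := ((ordSet p G).card : ℝ) with hn
    have h' : T3 * ((d : ℝ) * n ^ 3) = (Nat.card G : ℝ) * (N : ℝ) := by
      rw [hn]; exact_mod_cast h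
    have hle : ((p : ℝ) - 2) * n ^ 2 ≤ ((p : ℝ) - 1) * (N : ℝ) := by
      have := card_pairs_le P hP hpair
      have h2 : (((p - 2) * (ordSet p G).card ^ 2 : ℕ) : ℝ) ≤ (((p - 1) * N : ℕ) : ℝ) := by
        exact_mod_cast this
      rw [Nat.cast_mul, Nat.cast_mul, Nat.cast_pow, Nat.cast_sub hp.out.two_le,
        Nat.cast_sub hp.out.one_le] at h2
      rw [hn]
      simpa using h2
    have hpos : 0 < (d : ℝ) * n ^ 3 := by
      have hc0 : 0 < n := by rw [hn]; exact Nat.cast_pos.2 hS.card_pos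
      exact mul_pos (Nat.cast_pos.2 (Nat.pos_of_ne_zero hd0)) (pow_pos hc0 3)
    refine le_of_mul_le_mul_right ?_ hpos
    rw [h', ← hQ, hc]
    have hp1 : (0 : ℝ) < (p : ℝ) - 1 := by linarith
    calc ((p : ℝ) - 2) / ((p : ℝ) - 1) * Q * ((d : ℝ) * n ^ 3)
        = Q * ((d : ℝ) * n) * ((((p : ℝ) - 2) * n ^ 2) / ((p : ℝ) - 1)) := by ring
      _ ≤ Q * ((d : ℝ) * n) * (N : ℝ) := by
          refine mul_le_mul_of_nonneg_left ?_ ?_
          · rw [div_le_iff₀ hp1]; linarith
          · rw [hn, hQ]; positivity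
  obtain ⟨χ, hne, hlt⟩ := exists_weight (oneChar G) (weight M p)
    (fun χ => ((χ : G → ℂ) 1).re) (fun χ => (hre χ).2) (weight_oneChar M hM hS)
    (by simp [oneChar_apply]) hdeg hsq hcube hQ1 hQc
  have hB : χ ∈ Cfsg.principalBlock M G := by
    by_contra hB
    rw [weight, if_neg hB, mul_zero] at hlt
    exact absurd hlt (not_lt.2 (mul_nonneg (by linarith) (hre χ).2.le))
  refine ⟨χ, hne, hB, ?_⟩
  rwa [weight, if_pos hB] at hlt

end Cfsg.Agent.Lib.PairPSolvable
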