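import Cfsg.Agent.Lib.PairPSolvable.Data

/-!
# Galois orbits of weights

The power maps prime to `|G|` permute the irreducible characters and keep the principal weight.
An orbit has at least `φ(|v|) / |L|` members, `L` the exponents fixing the values on `⟨v⟩`, and `L`
has at most as many elements as `v` has primitive eigenvalues.
-/

set_option autoImplicit false
set_option linter.unusedSectionVars false
set_option linter.style.haveILetI false

open Cfsg.Agent.Lib.Characters.Basic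

namespace Cfsg.Agent.Lib.PairPSolvable

universe u

variable {p : ℕ} [hp : Fact p.Prime] {G : Type u} [Group G] [Fintype G]

/-- The exponents fixing the values of `χ` on the powers of `v`. -/
noncomputable def fixExp (χ : Cfsg.IrrCharacter G) (v : G) : Subgroup (ZMod (orderOf v))ˣ where
  carrier := {k | ∀ e : ℕ, (χ : G → ℂ) (v ^ ((k : ZMod (orderOf v)).val * e)) = (χ : G → ℂ) (v ^ e)}
  one_mem' e := by
    refine congrArg (χ : G → ℂ) (pow_eq_pow_iff_modEq.2 ((ZMod.natCast_eq_natCast_iff _ _ _).1 ?_))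
    haveI : NeZero (orderOf v) := ⟨(orderOf_pos v).ne'⟩
    rw [Nat.cast_mul, ZMod.natCast_zmod_val, Units.val_one, one_mul]
  mul_mem' {k l} hk hl e := by
    haveI : NeZero (orderOf v) := ⟨(orderOf_pos v).ne'⟩
    rw [← hl e, ← hk ((l : ZMod (orderOf v)).val * e)]
    refine congrArg (χ : G → ℂ) (pow_eq_pow_iff_modEq.2 ((ZMod.natCast_eq_natCast_iff _ _ _).1 ?_))
    push_cast
    rw [ZMod.natCast_zmod_val, ZMod.natCast_zmod_val, ZMod.natCast_zmod_val, mul_assoc]
  inv_mem' {k} hk e := by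
    haveI : NeZero (orderOf v) := ⟨(orderOf_pos v).ne'⟩
    rw [← hk (((k⁻¹ : (ZMod (orderOf v))ˣ) : ZMod (orderOf v)).val * e)]
    refine congrArg (χ : G → ℂ) (pow_eq_pow_iff_modEq.2 ((ZMod.natCast_eq_natCast_iff _ _ _).1 ?_))
    push_cast
    rw [ZMod.natCast_zmod_val, ZMod.natCast_zmod_val, ← mul_assoc, ← Units.val_mul, mul_inv_cancel,
      Units.val_one, one_mul]

theorem mem_fixExp {χ : Cfsg.IrrCharacter G} {v : G} {k : (ZMod (orderOf v))ˣ} :
    k ∈ fixExp χ v ↔ ∀ e : ℕ,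
      (χ : G → ℂ) (v ^ ((k : ZMod (orderOf v)).val * e)) = (χ : G → ℂ) (v ^ e) := Iff.rfl

theorem card_eq_root {ι : Type} [Fintype ι] (z : ι → ℂ) {n : ℕ} (hz : ∀ i, z i ^ n = 1) {ζ : ℂ}
    (hζ : ζ ^ n = 1) (hn : n ≠ 0) :
    ∑ e ∈ Finset.range n, (∑ i, z i ^ e) * (ζ⁻¹) ^ e =
      (n : ℂ) * (Nat.card {i : ι // z i = ζ} : ℂ) := by
  classical
  have hζ0 : ζ ≠ 0 := fun h => by rw [h, zero_pow hn] at hζ; exact zero_ne_one hζ
  simp only [Finset.sum_mul, ← mul_pow]
  rw [Finset.sum_comm]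
  have h1 : ∀ i, ∑ e ∈ Finset.range n, (z i * ζ⁻¹) ^ e = if z i = ζ then (n : ℂ) else 0 := by
    intro i
    split_ifs with h
    · simp [h, mul_inv_cancel₀ hζ0]
    · have hne : z i * ζ⁻¹ ≠ 1 := fun h' => h ((mul_inv_eq_one₀ hζ0).1 h')
      rw [geom_sum_eq hne, mul_pow, hz i, inv_pow, hζ, inv_one, one_mul, sub_self, zero_div]
  rw [Finset.sum_congr rfl fun i _ => h1 i, ← Finset.sum_filter, Finset.sum_const, nsmul_eq_mul,
    Nat.card_eq_fintype_card, Fintype.card_subtype, mul_comm]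

/-- `L` is at most as large as the set of primitive eigenvalues. -/
theorem card_fixExp_le (χ : Cfsg.IrrCharacter G) {v : G} {ι : Type} [Fintype ι] (z : ι → ℂ)
    (hz : ∀ i, z i ^ orderOf v = 1) (hsum : ∀ e : ℕ, (χ : G → ℂ) (v ^ e) = ∑ i, z i ^ e)
    {i₀ : ι} (hi₀ : IsPrimitiveRoot (z i₀) (orderOf v)) :
    Nat.card (fixExp χ v) ≤ Nat.card {i : ι // IsPrimitiveRoot (z i) (orderOf v)} := by
  classical
  set n := orderOf v with hn
  have hn0 : n ≠ 0 := (orderOf_pos v).ne'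
  haveI : NeZero n := ⟨hn0⟩
  have hex : ∀ k : fixExp χ v, ∃ i, z i = z i₀ ^ ((k : (ZMod n)ˣ) : ZMod n).val := by
    intro k
    set m := ((k : (ZMod n)ˣ) : ZMod n).val with hm
    have hmc : m.Coprime n := ZMod.val_coe_unit_coprime (k : (ZMod n)ˣ)
    have h1 := card_eq_root z hz (ζ := z i₀ ^ m) (by rw [← pow_mul, mul_comm, pow_mul, hz, one_pow]) hn0
    have h2 := card_eq_root (fun i => z i ^ m) (n := n)
      (fun i => by rw [← pow_mul, mul_comm, pow_mul, hz, one_pow]) (ζ := z i₀ ^ m)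
      (by rw [← pow_mul, mul_comm, pow_mul, hz, one_pow]) hn0
    have heq : ∀ e : ℕ, ∑ i, (z i ^ m) ^ e = ∑ i, z i ^ e := by
      intro e
      simp only [← pow_mul]
      rw [← hsum, ← hsum]
      exact mem_fixExp.1 k.2 e
    simp only [heq] at h2
    rw [h1] at h2
    have h3 : Nat.card {i : ι // z i = z i₀ ^ m} = Nat.card {i : ι // z i ^ m = z i₀ ^ m} := by
      exact_mod_cast mul_left_cancel₀ (Nat.cast_ne_zero.2 hn0) h2
    have h4 : 0 < Nat.card {i : ι // z i ^ m = z i₀ ^ m} := by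
      rw [Nat.card_eq_fintype_card, Fintype.card_pos_iff]
      exact ⟨⟨i₀, rfl⟩⟩
    rw [← h3, Nat.card_eq_fintype_card, Fintype.card_pos_iff] at h4
    obtain ⟨⟨i, hi⟩⟩ := h4
    exact ⟨i, hi⟩
  choose f hf using hex
  refine Nat.card_le_card_of_injective
    (fun k => (⟨f k, (hf k).symm ▸ hi₀.pow_of_coprime _
      (ZMod.val_coe_unit_coprime (k : (ZMod n)ˣ))⟩ : {i : ι // IsPrimitiveRoot (z i) n}))
    (fun k l hkl => Subtype.ext (Units.ext (ZMod.val_injective n ?_)))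
  have h : f k = f l := congrArg Subtype.val hkl
  exact hi₀.pow_inj (ZMod.val_lt _) (ZMod.val_lt _) (by rw [← hf k, ← hf l, h])

variable {M : Ideal Cfsg.AlgInt} (hM : Cfsg.IsPModular p M) (D : G → Subgroup G) (d : ℕ)
  (hD : ∀ u ∈ ordSet p G, IsComp p u (D u)) (hd : ∀ u ∈ ordSet p G, Nat.card (D u) = d)
  (hd0 : d ≠ 0) (hS : (ordSet p G).Nonempty)

include hM hD hd hd0 hS

theorem weight_smul (u : (ZMod (Nat.card G))ˣ) (χ : Cfsg.IrrCharacter G) :
    weight M p (u • χ) = weight M p χ := by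
  classical
  set k := BC77.PConj.expo (G := G) u with hk
  have hkc : k.Coprime (Nat.card G) := BC77.PConj.expo_coprime u
  have hinj : ∀ a b : G, a ^ k = b ^ k → a = b := fun a b h =>
    (powCoprime (G := G) hkc.symm).injective h
  have hmem : ∀ z ∈ secSet p G, z ^ k ∈ secSet p G := by
    intro z hz
    obtain ⟨w, hw, y, rfl, hc, hwp, hy⟩ := mem_secSet.1 hz
    have hkp : Nat.Coprime p k :=
      (hkc.symm.coprime_dvd_left (hw ▸ orderOf_dvd_natCard w))
    have ho : orderOf (w ^ k) = p := by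
      rw [orderOf_pow, hw, hkp.gcd_eq_one, Nat.div_one]
    refine mem_secSet.2 ⟨w ^ k, ho, y ^ k, (hc.mul_pow k).symm, hc.pow_pow k k,
      exists_pow_ordSet ho, fun hd' => hy (hd'.trans (orderOf_pow_dvd k))⟩
  have h : ∑ z ∈ secSet p G, ((u • χ : Cfsg.IrrCharacter G) : G → ℂ) z⁻¹ =
      ∑ z ∈ secSet p G, (χ : G → ℂ) z⁻¹ := by
    refine Finset.sum_nbij (fun z => z ^ k) hmem (fun a _ b _ h => hinj a b h)
      (Finset.surjOn_of_injOn_of_card_le _ (fun z hz => hmem z hz) (fun a _ b _ h => hinj a b h)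
        le_rfl) (fun z _ => ?_)
    rw [BC77.PConj.smul_apply, inv_pow]
  rw [sum_secSet_inv hM D d hD hd hS, sum_secSet_inv hM D d hD hd hS] at h
  have hne : (d : ℂ) * ((ordSet p G).card : ℂ) ≠ 0 :=
    mul_ne_zero (Nat.cast_ne_zero.2 hd0) (Nat.cast_ne_zero.2 hS.card_pos.ne')
  exact_mod_cast mul_left_cancel₀ hne h

open scoped Classical in
/-- The orbit bound: `φ(|v|) * weight² ≤ (Q - 1) |L|`. -/
theorem orbit_bound [Fintype (Cfsg.IrrCharacter G)] (χ : Cfsg.IrrCharacter G)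
    (hχ : χ ≠ oneChar G) (v : G) :
    (Nat.totient (orderOf v) : ℝ) * weight M p χ ^ 2 ≤
      (∑ ψ : Cfsg.IrrCharacter G, weight M p ψ ^ 2 - 1) * (Nat.card (fixExp χ v) : ℝ) := by
  haveI : NeZero (orderOf v) := ⟨(orderOf_pos v).ne'⟩
  haveI : NeZero (Nat.card G) := ⟨Nat.card_pos.ne'⟩
  set U := (ZMod (Nat.card G))ˣ
  set π := ZMod.unitsMap (orderOf_dvd_natCard v) with hπ
  have hsurj : Function.Surjective π := ZMod.unitsMap_surjective _
  have hle : MulAction.stabilizer U χ ≤ (fixExp χ v).comap π := by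
    intro u hu
    rw [Subgroup.mem_comap, mem_fixExp]
    intro e
    have h := congrFun (congrArg Subtype.val (MulAction.mem_stabilizer_iff.1 hu)) (v ^ e)
    rw [BC77.PConj.smul_apply] at h
    rw [← h, ← pow_mul, mul_comm e]
    refine congrArg (χ : G → ℂ) (pow_eq_pow_iff_modEq.2 (Nat.ModEq.mul_right e
      ((ZMod.natCast_eq_natCast_iff _ _ _).1 ?_)))
    rw [ZMod.natCast_zmod_val, hπ, ZMod.unitsMap_val, BC77.PConj.expo, ZMod.natCast_val]
  have hidx : (fixExp χ v).index ≤ (MulAction.orbit U χ).ncard := by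
    rw [← Subgroup.index_comap_of_surjective _ hsurj, ← MulAction.index_stabilizer]
    exact Nat.le_of_dvd (Nat.pos_of_ne_zero Subgroup.index_ne_zero_of_finite)
      (Subgroup.index_dvd_of_le hle)
  have hone : oneChar G ∉ MulAction.orbit U χ := by
    rintro ⟨u, hu⟩
    refine hχ ?_
    rw [show χ = u⁻¹ • oneChar G from eq_inv_smul_iff.2 hu]
    exact Subtype.ext (funext fun g => by rw [BC77.PConj.smul_apply]; rfl)
  set O := (MulAction.orbit U χ).toFinset with hO
  have hsum : (O.card : ℝ) * weight M p χ ^ 2 + 1 ≤ ∑ ψ : Cfsg.IrrCharacter G, weight M p ψ ^ 2 := by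
    have hc : ∀ ψ ∈ O, weight M p ψ ^ 2 = weight M p χ ^ 2 := fun ψ hψ => by
      obtain ⟨u, rfl⟩ := Set.mem_toFinset.1 hψ
      dsimp only
      rw [weight_smul hM D d hD hd hd0 hS]
    calc (O.card : ℝ) * weight M p χ ^ 2 + 1
        = ∑ ψ ∈ O, weight M p ψ ^ 2 + weight M p (oneChar G) ^ 2 := by
          rw [Finset.sum_congr rfl hc, Finset.sum_const, nsmul_eq_mul, weight_oneChar M hM hS,
            one_pow]
      _ = ∑ ψ ∈ insert (oneChar G) O, weight M p ψ ^ 2 := by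
          rw [Finset.sum_insert (fun h => hone (Set.mem_toFinset.1 h)), add_comm]
      _ ≤ _ := Finset.sum_le_univ_sum_of_nonneg fun ψ => sq_nonneg _
  have hcard : (fixExp χ v).index ≤ O.card := by
    rwa [hO, ← Set.ncard_eq_toFinset_card']
  have htot : Nat.totient (orderOf v) = (fixExp χ v).index * Nat.card (fixExp χ v) := by
    rw [mul_comm, Subgroup.card_mul_index, Nat.card_eq_fintype_card, ZMod.card_units_eq_totient]
  rw [htot, Nat.cast_mul]
  have h0 : (0 : ℝ) ≤ weight M p χ ^ 2 := sq_nonneg _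
  have hL : (0 : ℝ) ≤ (Nat.card (fixExp χ v) : ℝ) := Nat.cast_nonneg _
  have h2 : ((fixExp χ v).index : ℝ) ≤ (O.card : ℝ) := by exact_mod_cast hcard
  nlinarith [mul_le_mul_of_nonneg_right h2 h0]

end Cfsg.Agent.Lib.PairPSolvable
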