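import Cfsg.Agent.Lib.PairPSolvable.Cyclic

/-!
# Groups with cyclic Sylow subgroups in which pairs of elements of order `p` generate `p`-solvable
groups are `p`-solvable
-/

set_option autoImplicit false
set_option linter.unusedSectionVars false
set_option linter.style.haveILetI false

namespace Cfsg.Agent.Lib.PairPSolvable

universe u

variable {p : ℕ} [hp : Fact p.Prime]

theorem isPSolvable_of_pairs : ∀ (n : ℕ) (G : Type u) [Group G] [Finite G], Nat.card G = n →
    ∀ P : Sylow p G, IsCyclic (P : Subgroup G) → PairSolvable p G → Cfsg.IsPSolvable p G := by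
  intro n
  induction n using Nat.strong_induction_on with
  | _ n ih =>
  intro G _ _ hn P hPc hpair
  subst hn
  classical
  haveI := Fintype.ofFinite G
  by_cases hd : ¬ p ∣ Nat.card G
  · exact PSolvable.isPSolvable_of_coprime ((Nat.Prime.coprime_iff_not_dvd hp.out).2 hd).symm
  rw [not_not] at hd
  obtain ⟨⟨v, hvP⟩, hgen⟩ := hPc.exists_generator
  have hv : (P : Subgroup G) = Subgroup.zpowers v := by
    refine le_antisymm (fun g hg => ?_) (Subgroup.zpowers_le.2 hvP)
    obtain ⟨k, hk⟩ := hgen ⟨g, hg⟩
    exact ⟨k, congrArg Subtype.val hk⟩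
  by_cases hq : Cfsg.pPrimeCore p G ≠ ⊥
  · set N := Cfsg.pPrimeCore p G with hN
    set π := QuotientGroup.mk' N
    have hπ : Function.Surjective π := QuotientGroup.mk'_surjective N
    refine PSolvable.isPSolvable_of_extension N
      (PSolvable.isPSolvable_of_coprime PSolvable.card_pPrimeCore_coprime) ?_
    have hlt : Nat.card (G ⧸ N) < Nat.card G := by
      rw [Subgroup.card_eq_card_quotient_mul_card_subgroup N]
      exact lt_mul_of_one_lt_right Nat.card_pos ((Subgroup.one_lt_card_iff_ne_bot N).2 hq)
    have hNp : ¬ p ∣ Nat.card N := (Nat.Prime.coprime_iff_not_dvd hp.out).1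
      (PSolvable.card_pPrimeCore_coprime (p := p) (G := G)).symm
    refine ih _ hlt (G ⧸ N) rfl (P.mapSurjective hπ) ?_ ?_
    · rw [Sylow.coe_mapSurjective]
      haveI := hPc
      exact isCyclic_of_surjective (π.subgroupMap (P : Subgroup G))
        (π.subgroupMap_surjective (P : Subgroup G))
    · have hlift : ∀ a : G ⧸ N, orderOf a = p → ∃ w : G, orderOf w = p ∧ π w = a := by
        intro a ha
        obtain ⟨g, rfl⟩ := hπ a
        obtain ⟨w, hw⟩ := Blocks.exists_isPPart hp.out g
        obtain ⟨y, hy, hc, ⟨k, hk⟩, hyr⟩ := hw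
        have hyN : π y = 1 := by
          have h1 : π y ^ (p ^ (k + 1)) = 1 := by
            have h2 : π g ^ (p ^ (k + 1)) = 1 := orderOf_dvd_iff_pow_eq_one.1
              (by rw [ha]; exact dvd_pow_self p (Nat.succ_ne_zero k))
            have h3 : π w ^ (p ^ (k + 1)) = 1 := by
              rw [← map_pow, orderOf_dvd_iff_pow_eq_one.1 (hk ▸ pow_dvd_pow p (Nat.le_succ k)),
                map_one]
            rw [← hy, map_mul, (hc.map π).mul_pow, h3, one_mul] at h2
            exact h2
          obtain ⟨e, he⟩ := exists_pow_eq_self_of_coprime (x := π y) (n := p ^ (k + 1))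
            ((((Nat.Prime.coprime_iff_not_dvd hp.out).2
              (fun h => hyr (h.trans (orderOf_map_dvd π y))))).pow_left _)
          rw [← he, h1, one_pow]
        have hwa : π w = π g := by rw [← hy, map_mul, hyN, mul_one]
        refine ⟨w, orderOf_eq_prime ?_ ?_, hwa⟩
        · have h1 : w ^ p ∈ N := (QuotientGroup.eq_one_iff _).1 (by
            show π (w ^ p) = 1
            rw [map_pow, hwa]
            exact orderOf_dvd_iff_pow_eq_one.1 ha.dvd)
          refine orderOf_eq_one_iff.1 (Nat.eq_one_of_dvd_coprimes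
            (((Nat.Prime.coprime_iff_not_dvd hp.out).2 hNp).pow_left k) (hk ▸ orderOf_pow_dvd p) ?_)
          rw [← Subgroup.orderOf_mk (w ^ p) h1]
          exact orderOf_dvd_natCard _
        · intro h
          rw [← hwa, h, map_one, orderOf_one] at ha
          exact hp.out.ne_one ha.symm
      intro a b ha hb
      obtain ⟨w, hw, rfl⟩ := hlift a ha
      obtain ⟨w', hw', rfl⟩ := hlift b hb
      have h := PSolvable.isPSolvable_map π (hpair w w' hw hw')
      rwa [MonoidHom.map_closure, Set.image_pair] at h
  rw [not_not] at hq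
  by_cases hO : Cfsg.pCore p G ≠ ⊥
  · -- the subgroup of order `p` is normal
    obtain ⟨c, hc, hc1⟩ := ((Subgroup.bot_or_exists_ne_one _).resolve_left hO)
    have hOP : Cfsg.pCore p G ≤ (P : Subgroup G) :=
      IsPGroup.le_sylow_of_normal (PSolvable.isPGroup_pCore (p := p)) P
    have hdvd : p ∣ Nat.card (Cfsg.pCore p G) := by
      obtain ⟨k, hk⟩ := IsPGroup.iff_card.1 (PSolvable.isPGroup_pCore (p := p) (G := G))
      cases k with
      | zero => exact absurd (Subgroup.card_eq_one.1 (by simpa using hk)) hO
      | succ k => rw [hk]; exact dvd_pow_self p (Nat.succ_ne_zero k)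
    obtain ⟨⟨x, hxO⟩, hx'⟩ := exists_prime_orderOf_dvd_card' p hdvd
    have hx : orderOf x = p := by rwa [Subgroup.orderOf_mk] at hx'
    have hxP := hOP hxO
    haveI hXn : (Subgroup.zpowers x).Normal := by
      refine ⟨?_⟩
      rintro _ ⟨k, rfl⟩ g
      show g * x ^ k * g⁻¹ ∈ Subgroup.zpowers x
      rw [← conj_zpow]
      refine zpow_mem ?_ _
      obtain ⟨i, hi⟩ := mem_zpowers_x P hv hxP hx
        (hOP ((inferInstance : (Cfsg.pCore p G).Normal).conj_mem x hxO g))
        (by rw [conj_pow, ← hx, pow_orderOf_eq_one, mul_one, mul_inv_cancel])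
      rw [← hi]
      exact pow_mem (Subgroup.mem_zpowers x) i
    set C := Subgroup.centralizer (Subgroup.zpowers x : Set G) with hC
    haveI : C.Normal := Subgroup.normal_centralizer
    have hCc : C = Subgroup.centralizer ({x} : Set G) :=
      BrauerMap.PrincipalSection.centralizer_zpowers_eq x
    refine PSolvable.isPSolvable_of_extension C ?_ (PSolvable.isPSolvable_of_coprime ?_)
    · rw [PSolvable.isPSolvable_congr (MulEquiv.subgroupCongr hCc)]
      obtain ⟨Q, K, hK, hcomp⟩ := hasNormalPComplement_centralizer P hv hxP hx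
      haveI := hK
      refine PSolvable.isPSolvable_of_extension K (PSolvable.isPSolvable_of_coprime ?_)
        (PSolvable.isPSolvable_of_isPGroup ?_)
      · rw [← hcomp.index_eq_card]
        exact ((Nat.Prime.coprime_iff_not_dvd hp.out).2 Q.not_dvd_index).symm
      · obtain ⟨k, hk⟩ := IsPGroup.iff_card.1 Q.2
        refine IsPGroup.of_card (n := k) ?_
        rw [← Subgroup.index_eq_card, hcomp.symm.index_eq_card, hk]
    · refine ((Nat.Prime.coprime_iff_not_dvd hp.out).2 fun h => P.not_dvd_index ?_).symm
      have hPC : (P : Subgroup G) ≤ C := by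
        rw [hCc]
        exact fun g hg => Subgroup.mem_centralizer_singleton_iff.2
          (commute_sylow P hv hxP hx g hg x hxP)
      rw [← Subgroup.index_eq_card] at h
      exact h.trans (Subgroup.index_dvd_of_le hPC)
  rw [not_not] at hO
  -- both cores trivial: the group is simple
  haveI : Nontrivial G := by
    rw [← Finite.one_lt_card_iff_nontrivial]
    exact lt_of_lt_of_le hp.out.one_lt (Nat.le_of_dvd Nat.card_pos hd)
  exfalso
  haveI : IsSimpleGroup G := by
    refine ⟨fun A hA => ?_⟩
    haveI := hA
    by_contra hc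
    rw [not_or] at hc
    have hlt : Nat.card A < Nat.card G := by
      refine lt_of_le_of_ne (Nat.le_of_dvd Nat.card_pos A.card_subgroup_dvd_card) fun h => hc.2 ?_
      exact A.eq_top_of_card_eq h
    obtain ⟨QA⟩ : Nonempty (Sylow p A) := inferInstance
    obtain ⟨T, hT⟩ := (QA.2.map A.subtype).exists_le_sylow
    have hTc : IsCyclic (T : Subgroup G) := by
      obtain ⟨g, rfl⟩ := MulAction.exists_smul_eq G P T
      haveI := hPc
      exact isCyclic_of_surjective (P.equiv (g • P)).toMonoidHom (P.equiv (g • P)).surjective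
    have hQc : IsCyclic (QA : Subgroup A) := by
      haveI := hTc
      exact isCyclic_of_injective
        (((Subgroup.inclusion hT)).comp (A.subtype.subgroupMap (QA : Subgroup A)))
        ((Subgroup.inclusion_injective hT).comp fun a b h => by
          have h' := congrArg Subtype.val h
          exact Subtype.ext (Subtype.ext h'))
    have hpairA : PairSolvable p A := by
      intro a b ha hb
      have h := hpair (a : G) (b : G) (by rwa [Subgroup.orderOf_coe]) (by rwa [Subgroup.orderOf_coe])
      rw [show ({(a : G), (b : G)} : Set G) = A.subtype '' {a, b} by rw [Set.image_pair]; rfl,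
        ← MonoidHom.map_closure] at h
      exact (PSolvable.isPSolvable_congr
        (Subgroup.equivMapOfInjective _ A.subtype A.subtype_injective)).2 h
    have hA' := ih _ hlt A rfl QA hQc hpairA
    haveI : Nontrivial A := (Subgroup.nontrivial_iff_ne_bot A).2 hc.1
    rcases PSolvable.cores_ne_bot_of_normal A (PSolvable.cores_ne_bot hA') with h | h
    · exact h hO
    · exact h hq
  have hne : (P : Subgroup G) ≠ ⊥ := P.ne_bot_of_dvd_card hd
  refine false_of_cyclic P hPc hne (fun hle => ?_) hpair
  have hcomp := MonoidHom.ker_transferSylow_isComplement' P hle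
  set K := (MonoidHom.transferSylow P hle).ker
  have hK : K ≤ Cfsg.pPrimeCore p G := PSolvable.le_pPrimeCore (MonoidHom.normal_ker _) (by
    rw [← hcomp.index_eq_card]
    exact ((Nat.Prime.coprime_iff_not_dvd hp.out).2 P.not_dvd_index).symm)
  rw [hq, le_bot_iff] at hK
  have h1 := hcomp.card_mul_card
  rw [hK, Subgroup.card_bot, one_mul] at h1
  have hPt : (P : Subgroup G) = ⊤ := (P : Subgroup G).eq_top_of_card_eq h1
  have := PSolvable.le_pCore (p := p) (N := (P : Subgroup G)) (by rw [hPt]; infer_instance) P.2
  rw [hO, le_bot_iff] at this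
  exact hne this

end Cfsg.Agent.Lib.PairPSolvable
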