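import Cfsg.Agent.Lib.PairPSolvable.Hom
import Cfsg.Prelude.Def_Transfer

/-!
# Sections of elements with `p`-nilpotent centralizers

If the centralizer of the `p`-element `u` has a normal `p`-complement `D`, then for every irreducible
character either the sum over the section `u D` vanishes or the character is constant on it.
-/

set_option autoImplicit false
set_option linter.unusedSectionVars false
set_option linter.style.haveILetI false

open Cfsg.Agent.Lib.BrauerMap Cfsg.Agent.Lib.BrauerMap.SecondMain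

namespace Cfsg.Agent.Lib.PairPSolvable

universe u

variable {p : ℕ} [hp : Fact p.Prime] {G : Type u} [Group G] [Finite G]

/-- `D` is a normal `p`-complement of `C_G(u)`, given as a subgroup of `G`. -/
structure IsComp (p : ℕ) (u : G) (D : Subgroup G) : Prop where
  commute : ∀ d ∈ D, Commute u d
  conj_mem : ∀ c : G, Commute u c → ∀ d ∈ D, c * d * c⁻¹ ∈ D
  not_dvd : ¬ p ∣ Nat.card D
  card : ∃ k : ℕ, Nat.card (Subgroup.centralizer ({u} : Set G)) = Nat.card D * p ^ k

theorem exists_isComp {u : G}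
    (h : Cfsg.HasNormalPComplement p (Subgroup.centralizer ({u} : Set G))) :
    ∃ D : Subgroup G, IsComp p u D := by
  obtain ⟨Q, N, hN, hc⟩ := h
  obtain ⟨k, hk⟩ := IsPGroup.iff_card.mp Q.2
  refine ⟨N.map (Subgroup.centralizer ({u} : Set G)).subtype, ?_, ?_, ?_, k, ?_⟩
  · rintro _ ⟨d, -, rfl⟩
    exact (Subgroup.mem_centralizer_singleton_iff.1 d.2).symm
  · rintro c hc' _ ⟨d, hd, rfl⟩
    exact ⟨⟨c, Subgroup.mem_centralizer_singleton_iff.2 hc'.eq.symm⟩ * d *
      ⟨c, Subgroup.mem_centralizer_singleton_iff.2 hc'.eq.symm⟩⁻¹, hN.conj_mem d hd _, rfl⟩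
  · rw [Subgroup.card_map_of_injective (Subgroup.subtype_injective _),
      show Nat.card N = (Q : Subgroup (Subgroup.centralizer ({u} : Set G))).index from
        hc.index_eq_card.symm]
    exact Q.not_dvd_index
  · rw [Subgroup.card_map_of_injective (Subgroup.subtype_injective _), ← hk, hc.card_mul_card]

/-- The elements with `p`-part `u` are the elements `u * d`, `d ∈ D`. -/
theorem IsComp.isPPart_iff {u : G} {D : Subgroup G} (hD : IsComp p u D)
    (hu : ∃ k : ℕ, orderOf u = p ^ k) {z : G} :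
    Cfsg.IsPPart p z u ↔ ∃ d ∈ D, z = u * d := by
  constructor
  · rintro ⟨y, hy, hc, -, hyr⟩
    refine ⟨y, ?_, hy.symm⟩
    set C := Subgroup.centralizer ({u} : Set G) with hC
    have hDC : D ≤ C := fun d hd => Subgroup.mem_centralizer_singleton_iff.2 (hD.commute d hd).eq.symm
    have hyC : y ∈ C := Subgroup.mem_centralizer_singleton_iff.2 hc.eq.symm
    haveI : (D.subgroupOf C).Normal := ⟨fun d hd c => by
      rw [Subgroup.mem_subgroupOf] at hd ⊢
      exact hD.conj_mem c (Subgroup.mem_centralizer_singleton_iff.1 c.2).symm _ hd⟩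
    obtain ⟨k, hk⟩ := hD.card
    have hidx : (D.subgroupOf C).index = p ^ k := by
      have h1 := (D.subgroupOf C).card_mul_index
      rw [Nat.card_congr (Subgroup.subgroupOfEquivOfLe hDC).toEquiv, hk] at h1
      exact Nat.eq_of_mul_eq_mul_left Nat.card_pos h1
    have h2 : (⟨y, hyC⟩ : C) ^ (p ^ k) ∈ D.subgroupOf C := hidx ▸ Subgroup.pow_index_mem _ _
    rw [Subgroup.mem_subgroupOf, SubmonoidClass.coe_pow] at h2
    obtain ⟨m, hm⟩ := exists_pow_eq_self_of_coprime (x := y) (n := p ^ k)
      (((Nat.Prime.coprime_iff_not_dvd hp.out).2 hyr).pow_left k)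
    rw [← hm]
    exact pow_mem h2 m
  · rintro ⟨d, hd, rfl⟩
    exact ⟨d, rfl, hD.commute d hd, hu, fun h => hD.not_dvd
      (h.trans (by rw [← Subgroup.orderOf_mk d hd]; exact orderOf_dvd_natCard _))⟩

/-- For each character the section sum vanishes, or the character is constant on the section. -/
theorem IsComp.dichotomy {M : Ideal Cfsg.AlgInt} (hM : Cfsg.IsPModular p M) {u : G}
    {D : Subgroup G} (hD : IsComp p u D) [Fintype D] (hu : ∃ k : ℕ, orderOf u = p ^ k)
    (χ : Cfsg.IrrCharacter G) :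
    ((χ ∉ Cfsg.principalBlock M G) → ∑ d : D, (χ : G → ℂ) (u * (d : G)) = 0) ∧
      (χ ∈ Cfsg.principalBlock M G →
        ∑ d : D, (χ : G → ℂ) (u * (d : G)) = (Nat.card D : ℂ) * (χ : G → ℂ) u) := by
  classical
  haveI := Fintype.ofFinite G
  haveI := hM.2.1
  set C := Subgroup.centralizer (Subgroup.zpowers u : Set G) with hC
  have hCc : C = Subgroup.centralizer ({u} : Set G) := PrincipalSection.centralizer_zpowers_eq u
  have hDC : D ≤ C := fun d hd => by
    rw [hCc]; exact Subgroup.mem_centralizer_singleton_iff.2 (hD.commute d hd).eq.symm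
  haveI : (D.subgroupOf C).Normal := ⟨fun d hd c => by
    rw [Subgroup.mem_subgroupOf] at hd ⊢
    exact hD.conj_mem c (Subgroup.mem_centralizer_singleton_iff.1 (hCc ▸ c.2)).symm _ hd⟩
  have hcardD : Nat.card (D.subgroupOf C) = Nat.card D :=
    Nat.card_congr (Subgroup.subgroupOfEquivOfLe hDC).toEquiv
  have hidx : ∃ k : ℕ, (D.subgroupOf C).index = p ^ k := by
    obtain ⟨k, hk⟩ := hD.card
    refine ⟨k, ?_⟩
    have h1 := (D.subgroupOf C).card_mul_index
    rw [hcardD, Nat.card_congr (MulEquiv.subgroupCongr hCc).toEquiv, hk] at h1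
    exact Nat.eq_of_mul_eq_mul_left Nat.card_pos h1
  have hprinc := PrincipalSection.principalBlock_eq_trivialOn (G := C) hM (D.subgroupOf C)
    (by rw [hcardD]; exact hD.not_dvd) hidx
  have hf : ∀ k : G, ((PrincipalSection.extPrinc M C).coeff k : ℂ) =
      if k ∈ D then (Nat.card D : ℂ)⁻¹ else 0 := by
    intro k
    rw [PrincipalSection.coe_coeff_extPrinc]
    by_cases hk : k ∈ C
    · rw [dif_pos hk, hprinc, Inflation.blockCoeff_trivialOn, hcardD]
      exact if_congr Subgroup.mem_subgroupOf rfl rfl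
    · rw [dif_neg hk, if_neg fun h => hk (hDC h)]
  have hsum : ∀ d : D, ∑ k : G, ((PrincipalSection.extPrinc M C).coeff k : ℂ) *
      (χ : G → ℂ) (u * (d : G) * k) =
        (Nat.card D : ℂ)⁻¹ * ∑ e : D, (χ : G → ℂ) (u * (e : G)) := by
    intro d
    simp only [hf, ite_mul, zero_mul]
    rw [← Finset.sum_filter, Finset.mul_sum]
    rw [← Fintype.sum_equiv (Equiv.mulLeft d) (fun e : D => (Nat.card D : ℂ)⁻¹ *
      (χ : G → ℂ) (u * ((d * e : D) : G))) _ (fun e => rfl)]
    rw [Finset.sum_subtype (p := (· ∈ D)) (F := inferInstance) _ (fun k => by simp)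
      (fun k : G => (Nat.card D : ℂ)⁻¹ * (χ : G → ℂ) (u * (d : G) * k))]
    exact Fintype.sum_congr _ _ fun e => by rw [Subgroup.coe_mul, mul_assoc]
  have hpp : ∀ d : D, Cfsg.IsPPart p (u * (d : G)) u := fun d =>
    (hD.isPPart_iff hu).2 ⟨d, d.2, rfl⟩
  have hne : (Nat.card D : ℂ) ≠ 0 := Nat.cast_ne_zero.2 Nat.card_pos.ne'
  constructor
  · intro hχ
    have h := PrincipalSection.sum_extPrinc_apply hM (hpp 1) χ
    rw [hsum 1, if_neg hχ] at h
    exact (mul_eq_zero.1 h).resolve_left (inv_ne_zero hne)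
  · intro hχ
    have h1 := PrincipalSection.sum_extPrinc_apply hM (hpp 1) χ
    rw [hsum 1, if_pos hχ, OneMemClass.coe_one, mul_one, inv_mul_eq_iff_eq_mul₀ hne] at h1
    exact h1

end Cfsg.Agent.Lib.PairPSolvable
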