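import Cfsg.Agent.Lib.PairPSolvable.Section
import Cfsg.Agent.Lib.Characters.Complete
import Cfsg.Agent.Lib.Blocks.Central

/-!
# Character sums over the elements of order `p` and their sections

`S` is the set of elements of order `p`, `T` the union of their sections, and the principal weight
of a character is its average on `S` if it lies in the principal block and `0` otherwise.  The
squares of the weights sum to `|G| / (d |S|)`, the weights are orthogonal to the degrees, and
the cubes divided by the degrees count the pairs of `S` with product in `T`.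
-/

set_option autoImplicit false
set_option linter.unusedSectionVars false
set_option linter.style.haveILetI false

open MonoidAlgebra
open Cfsg.Agent.Lib.BrauerMap.Basic
open Cfsg.Agent.Lib.Characters.Basic
open Cfsg.Agent.Lib
open scoped ComplexConjugate

namespace Cfsg.Agent.Lib.PairPSolvable

universe u

variable {p : ℕ} [hp : Fact p.Prime] {G : Type u} [Group G] [Fintype G]

/-- The elements of order `p`. -/
noncomputable def ordSet (p : ℕ) (G : Type u) [Group G] [Fintype G] : Finset G :=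
  Finset.univ.filter fun g => orderOf g = p

open scoped Classical in
/-- The elements whose `p`-part has order `p`. -/
noncomputable def secSet (p : ℕ) (G : Type u) [Group G] [Fintype G] : Finset G :=
  Finset.univ.filter fun z => ∃ u ∈ ordSet p G, Cfsg.IsPPart p z u

theorem mem_ordSet {g : G} : g ∈ ordSet p G ↔ orderOf g = p := by simp [ordSet]

theorem mem_secSet {z : G} : z ∈ secSet p G ↔ ∃ u, orderOf u = p ∧ Cfsg.IsPPart p z u := by
  simp [secSet, mem_ordSet]

theorem ordSet_inv {g : G} : g⁻¹ ∈ ordSet p G ↔ g ∈ ordSet p G := by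
  simp [mem_ordSet, orderOf_inv]

theorem ordSet_conj {c g : G} : c * g * c⁻¹ ∈ ordSet p G ↔ g ∈ ordSet p G := by
  rw [mem_ordSet, mem_ordSet]
  rw [show orderOf (c * g * c⁻¹) = orderOf g from (MulAut.conj c).orderOf_eq g]

theorem exists_pow_ordSet {u : G} (hu : orderOf u = p) : ∃ k : ℕ, orderOf u = p ^ k :=
  ⟨1, by rw [pow_one, hu]⟩

theorem inter_secSet {g : G} (hg : g ∈ ordSet p G) : g ∈ secSet p G :=
  mem_secSet.2 ⟨g, mem_ordSet.1 hg, Blocks.isPPart_self hp.out (exists_pow_ordSet (mem_ordSet.1 hg))⟩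

/-- The sum of a character over `S`. -/
noncomputable def sigma (p : ℕ) (χ : Cfsg.IrrCharacter G) : ℂ :=
  ∑ x ∈ ordSet p G, (χ : G → ℂ) x

theorem conj_sigma (χ : Cfsg.IrrCharacter G) : conj (sigma p χ) = sigma p χ := by
  rw [sigma, map_sum]
  refine Finset.sum_nbij' (fun x => x⁻¹) (fun x => x⁻¹) (fun x hx => ?_) (fun x hx => ?_)
    (fun x _ => inv_inv x) (fun x _ => inv_inv x) (fun x _ => ?_)
  · exact ordSet_inv.2 hx
  · exact ordSet_inv.2 hx
  · rw [apply_inv (isCharacter_irr χ)]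

/-- The mean value on `S`. -/
noncomputable def mean (p : ℕ) (χ : Cfsg.IrrCharacter G) : ℝ :=
  (sigma p χ).re / ((ordSet p G).card : ℝ)

theorem mean_eq (hS : (ordSet p G).Nonempty) (χ : Cfsg.IrrCharacter G) :
    sigma p χ = ((ordSet p G).card : ℂ) * (mean p χ : ℂ) := by
  have hc : ((ordSet p G).card : ℂ) ≠ 0 := Nat.cast_ne_zero.2 hS.card_pos.ne'
  rw [mean, Complex.ofReal_div, Complex.ofReal_natCast, mul_div_cancel₀ _ hc]
  exact ((Complex.conj_eq_iff_re).1 (conj_sigma χ)).symm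

variable (M : Ideal Cfsg.AlgInt)

open scoped Classical in
/-- The principal weight. -/
noncomputable def weight (p : ℕ) (χ : Cfsg.IrrCharacter G) : ℝ :=
  if χ ∈ Cfsg.principalBlock M G then mean p χ else 0

variable {M} (hM : Cfsg.IsPModular p M) (D : G → Subgroup G) (d : ℕ)
  (hD : ∀ u ∈ ordSet p G, IsComp p u (D u)) (hd : ∀ u ∈ ordSet p G, Nat.card (D u) = d)

include hM hD hd

open scoped Classical in
theorem sum_secSet (F : G → ℂ) :
    ∑ z ∈ secSet p G, F z = ∑ u ∈ ordSet p G, ∑ e : D u, F (u * (e : G)) := by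
  have h1 : ∀ u ∈ ordSet p G, ∑ e : D u, F (u * (e : G)) =
      ∑ z ∈ Finset.univ.filter (fun z => Cfsg.IsPPart p z u), F z := by
    intro u hu
    refine Finset.sum_bij' (fun e _ => u * (e : G))
      (fun z hz => ⟨u⁻¹ * z, by
        obtain ⟨e, he, rfl⟩ := ((hD u hu).isPPart_iff (exists_pow_ordSet (mem_ordSet.1 hu))).1
          (Finset.mem_filter.1 hz).2
        rwa [inv_mul_cancel_left]⟩) (fun e _ => ?_) (fun z _ => Finset.mem_univ _)
      (fun e _ => Subtype.ext (inv_mul_cancel_left _ _)) (fun z _ => mul_inv_cancel_left _ _)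
      (fun _ _ => rfl)
    exact Finset.mem_filter.2 ⟨Finset.mem_univ _,
      ((hD u hu).isPPart_iff (exists_pow_ordSet (mem_ordSet.1 hu))).2 ⟨e, e.2, rfl⟩⟩
  rw [Finset.sum_congr rfl h1, ← Finset.sum_biUnion]
  · refine Finset.sum_congr ?_ fun _ _ => rfl
    ext z
    simp [mem_secSet, mem_ordSet]
  · intro u _ v _ huv
    simp only [Function.onFun]
    rw [Finset.disjoint_left]
    intro z hz hz'
    exact huv (BrauerMap.PrincipalSection.isPPart_unique hp.out
      (Finset.mem_filter.1 hz).2 (Finset.mem_filter.1 hz').2)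

/-- The sum over the sections. -/
theorem sum_secSet_inv (hS : (ordSet p G).Nonempty) (χ : Cfsg.IrrCharacter G) :
    ∑ z ∈ secSet p G, (χ : G → ℂ) z⁻¹ =
      (d : ℂ) * ((ordSet p G).card : ℂ) * (weight M p χ : ℂ) := by
  classical
  have h : ∑ z ∈ secSet p G, (χ : G → ℂ) z =
      (d : ℂ) * ((ordSet p G).card : ℂ) * (weight M p χ : ℂ) := by
    rw [sum_secSet hM D d hD hd (χ : G → ℂ), weight]
    split_ifs with hχ
    · rw [mul_assoc, ← mean_eq hS χ, sigma, Finset.mul_sum]
      refine Finset.sum_congr rfl fun u hu => ?_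
      rw [((hD u hu).dichotomy hM (exists_pow_ordSet (mem_ordSet.1 hu)) χ).2 hχ, hd u hu]
    · rw [Complex.ofReal_zero, mul_zero]
      exact Finset.sum_eq_zero fun u hu =>
        ((hD u hu).dichotomy hM (exists_pow_ordSet (mem_ordSet.1 hu)) χ).1 hχ
  have h2 : conj (∑ z ∈ secSet p G, (χ : G → ℂ) z) = ∑ z ∈ secSet p G, (χ : G → ℂ) z⁻¹ := by
    rw [map_sum]
    exact Finset.sum_congr rfl fun z _ => (apply_inv (isCharacter_irr χ) z).symm
  rw [← h2, h]
  simp

variable [Fintype (Cfsg.IrrCharacter G)]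

theorem sum_weight_sq (hS : (ordSet p G).Nonempty) :
    (∑ χ : Cfsg.IrrCharacter G, weight M p χ ^ 2) * ((d : ℝ) * ((ordSet p G).card : ℝ)) =
      (Nat.card G : ℝ) := by
  classical
  set S := ordSet p G with hSdef
  have key : ∑ χ : Cfsg.IrrCharacter G, sigma p χ * ∑ z ∈ secSet p G, (χ : G → ℂ) z⁻¹ =
      (S.card : ℂ) * (Nat.card G : ℂ) := by
    have h1 : ∀ χ : Cfsg.IrrCharacter G, sigma p χ * ∑ z ∈ secSet p G, (χ : G → ℂ) z⁻¹ =
        ∑ x ∈ S, ∑ z ∈ secSet p G, (χ : G → ℂ) x * (χ : G → ℂ) z⁻¹ := fun χ => by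
      rw [sigma, Finset.sum_mul]
      exact Finset.sum_congr rfl fun x _ => Finset.mul_sum _ _ _
    rw [Finset.sum_congr rfl fun χ _ => h1 χ, Finset.sum_comm]
    simp only [Finset.sum_comm (s := (Finset.univ : Finset (Cfsg.IrrCharacter G))),
      BrauerMap.PrincipalSection.sum_irr_mul_inv]
    rw [← nsmul_eq_mul, ← Finset.sum_const]
    refine Finset.sum_congr rfl fun x hx => ?_
    rw [Finset.sum_comm, Nat.card_eq_fintype_card, ← Finset.card_univ, Finset.card_eq_sum_ones,
      Nat.cast_sum, Nat.cast_one]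
    refine Finset.sum_congr rfl fun v _ => ?_
    rw [Finset.sum_eq_single_of_mem (v⁻¹ * x * v⁻¹⁻¹) (inter_secSet (ordSet_conj.2 hx))
      (fun z _ hz => if_neg fun e => hz (by rw [e]; group))]
    exact if_pos (by group)
  have h2 : ∀ χ : Cfsg.IrrCharacter G, sigma p χ * ∑ z ∈ secSet p G, (χ : G → ℂ) z⁻¹ =
      (((weight M p χ ^ 2) * ((d : ℝ) * (S.card : ℝ)) * (S.card : ℝ) : ℝ) : ℂ) := by
    intro χ
    rw [sum_secSet_inv hM D d hD hd hS, weight]
    split_ifs
    · rw [mean_eq hS χ]; push_cast; ring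
    · simp
  rw [Finset.sum_congr rfl fun χ _ => h2 χ, ← Complex.ofReal_sum, ← Finset.sum_mul,
    ← Finset.sum_mul] at key
  have key' : (∑ χ : Cfsg.IrrCharacter G, weight M p χ ^ 2) * ((d : ℝ) * (S.card : ℝ)) *
      (S.card : ℝ) = (S.card : ℝ) * (Nat.card G : ℝ) := by exact_mod_cast key
  have hc : (S.card : ℝ) ≠ 0 := Nat.cast_ne_zero.2 hS.card_pos.ne'
  exact mul_right_cancel₀ hc (key'.trans (mul_comm _ _))

theorem sum_degree_weight (hS : (ordSet p G).Nonempty) (hd0 : d ≠ 0) :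
    ∑ χ : Cfsg.IrrCharacter G, (χ : G → ℂ) 1 * (weight M p χ : ℂ) = 0 := by
  classical
  have h : ∑ χ : Cfsg.IrrCharacter G, (χ : G → ℂ) 1 * ∑ z ∈ secSet p G, (χ : G → ℂ) z⁻¹ = 0 := by
    simp only [Finset.mul_sum]
    rw [Finset.sum_comm]
    refine Finset.sum_eq_zero fun z hz => ?_
    rw [Cfsg.Agent.Lib.Characters.Complete.sum_degree_mul_apply, if_neg]
    intro h
    rw [inv_eq_one] at h
    obtain ⟨u, hu, ⟨y, hy, hc, -, hyr⟩⟩ := mem_secSet.1 hz
    subst h
    have : y = u⁻¹ := eq_inv_of_mul_eq_one_right hy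
    rw [this, orderOf_inv, hu] at hyr
    exact hyr dvd_rfl
  simp only [sum_secSet_inv hM D d hD hd hS] at h
  have hc : (d : ℂ) * ((ordSet p G).card : ℂ) ≠ 0 :=
    mul_ne_zero (Nat.cast_ne_zero.2 hd0) (Nat.cast_ne_zero.2 hS.card_pos.ne')
  have h' : ∀ χ : Cfsg.IrrCharacter G,
      (χ : G → ℂ) 1 * ((d : ℂ) * ((ordSet p G).card : ℂ) * (weight M p χ : ℂ)) =
        (d : ℂ) * ((ordSet p G).card : ℂ) * ((χ : G → ℂ) 1 * (weight M p χ : ℂ)) := fun χ => by ring
  rw [Finset.sum_congr rfl fun χ _ => h' χ, ← Finset.mul_sum] at h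
  exact (mul_eq_zero.1 h).resolve_left hc

omit hM hD hd in
theorem sum_apply_mul_right (χ : Cfsg.IrrCharacter G) (w : G) :
    ∑ x ∈ ordSet p G, (χ : G → ℂ) (x * w) = sigma p χ / (χ : G → ℂ) 1 * (χ : G → ℂ) w := by
  classical
  set z : MonoidAlgebra ℂ G := ∑ x ∈ ordSet p G, single x (1 : ℂ) with hz
  have hzc : z ∈ Subalgebra.center ℂ (MonoidAlgebra ℂ G) := by
    rw [mem_center_iff_coeff]
    intro v g
    simp only [hz, coeff_sum, Finsupp.finsetSum_apply, coeff_single, Finsupp.single_apply,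
      Finset.sum_ite_eq']
    exact if_congr ordSet_conj rfl rfl
  have h := Blocks.lin_center_mul χ hzc (single w 1)
  rw [hz, Finset.sum_mul, map_sum, map_sum] at h
  simp only [single_mul_single, one_mul, Blocks.lin_single] at h
  exact h

open scoped Classical in
theorem sum_weight_cube (hS : (ordSet p G).Nonempty) :
    (∑ χ : Cfsg.IrrCharacter G, ((weight M p χ : ℂ) ^ 3) / (χ : G → ℂ) 1) *
        ((d : ℂ) * ((ordSet p G).card : ℂ) ^ 3) =
      (Nat.card G : ℂ) * (((ordSet p G ×ˢ ordSet p G).filter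
        fun a => a.1 * a.2 ∈ secSet p G).card : ℂ) := by
  set S := ordSet p G with hSdef
  have h1 : ∀ χ : Cfsg.IrrCharacter G,
      ((weight M p χ : ℂ) ^ 3) / (χ : G → ℂ) 1 * ((d : ℂ) * (S.card : ℂ) ^ 3) =
        (χ : G → ℂ) 1 * ∑ x ∈ S, ∑ y ∈ S, ∑ z ∈ secSet p G, (χ : G → ℂ) (x * (y * z⁻¹)) := by
    intro χ
    have hf : (χ : G → ℂ) 1 ≠ 0 := apply_one_ne_zero χ
    have e1 : ∑ x ∈ S, ∑ y ∈ S, ∑ z ∈ secSet p G, (χ : G → ℂ) (x * (y * z⁻¹)) =
        (sigma p χ / (χ : G → ℂ) 1) ^ 2 * ∑ z ∈ secSet p G, (χ : G → ℂ) z⁻¹ := by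
      rw [Finset.sum_comm, sq, mul_assoc]
      have : ∀ y : G, ∑ x ∈ S, ∑ z ∈ secSet p G, (χ : G → ℂ) (x * (y * z⁻¹)) =
          sigma p χ / (χ : G → ℂ) 1 * ∑ z ∈ secSet p G, (χ : G → ℂ) (y * z⁻¹) := fun y => by
        rw [Finset.sum_comm, Finset.mul_sum]
        exact Finset.sum_congr rfl fun z _ => sum_apply_mul_right χ _
      rw [Finset.sum_congr rfl fun y _ => this y, ← Finset.mul_sum, Finset.sum_comm]
      congr 1
      rw [Finset.mul_sum]
      exact Finset.sum_congr rfl fun z _ => sum_apply_mul_right χ _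
    rw [e1, sum_secSet_inv hM D d hD hd hS]
    unfold weight
    split_ifs
    · rw [mean_eq hS χ]; field_simp; rw [hSdef]
    · simp
  rw [Finset.sum_mul, Finset.sum_congr rfl fun χ _ => h1 χ]
  simp only [Finset.mul_sum]
  rw [Finset.sum_comm]
  simp only [Finset.sum_comm (s := (Finset.univ : Finset (Cfsg.IrrCharacter G))),
    Cfsg.Agent.Lib.Characters.Complete.sum_degree_mul_apply]
  rw [Finset.card_eq_sum_ones, Nat.cast_sum, Finset.mul_sum, Finset.sum_filter,
    Finset.sum_product]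
  refine Finset.sum_congr rfl fun x _ => Finset.sum_congr rfl fun y _ => ?_
  rw [Nat.cast_one, mul_one]
  by_cases hxy : x * y ∈ secSet p G
  · rw [if_pos hxy, Finset.sum_eq_single_of_mem (x * y) hxy fun z _ hz => if_neg fun h => hz ?_]
    · exact if_pos (by group)
    · rw [← mul_assoc, mul_inv_eq_one] at h
      exact h.symm
  · rw [if_neg hxy]
    refine Finset.sum_eq_zero fun z hz => if_neg fun h => hxy ?_
    rw [← mul_assoc, mul_inv_eq_one] at h
    rwa [h]

end Cfsg.Agent.Lib.PairPSolvable
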